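import Groth.Agent.CurvSt.K133.EtAlg
import Mathlib.RingTheory.Flat.TorsionFree

/-!
# The normalization of a simple cover in `E(√f)` is étale over `y² = f`: the theorem
-/

set_option autoImplicit false

open Polynomial

namespace K133.W0

theorem Dbl.finite {C W : Type*} [CommRing C] [CommRing W] [Algebra C W] {f : C} {Y : W} [IsNoetherianRing C]
    (h : Dbl f Y) : Module.Finite C W := by
  let S : Submodule C W := Submodule.span C {Y, 1}
  have hfin : Module.Finite C S := Module.Finite.span_of_finite C (Set.toFinite _)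
  have hmem : ∀ w : W, LinearMap.mulRight C Y w ∈ S := by
    intro w
    obtain ⟨α, c, d, h1, -⟩ := h.ex w
    rw [LinearMap.mulRight_apply, h1, ← Algebra.smul_def, Algebra.algebraMap_eq_smul_one]
    exact S.add_mem (S.smul_mem _ (Submodule.subset_span (by simp)))
      (S.smul_mem _ (Submodule.subset_span (by simp)))
  let m : W →ₗ[C] S := LinearMap.codRestrict S (LinearMap.mulRight C Y) hmem
  have hm : Function.Injective m := by
    rw [injective_iff_map_eq_zero]
    intro w hw
    exact h.reg w (congrArg Subtype.val hw)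
  have : IsNoetherian C W := isNoetherian_of_injective m hm
  infer_instance

section

variable {k : Type*} [Field k]
  {B : Type*} [CommRing B] [IsDomain B] [Algebra k B] [Algebra k[X] B] [IsScalarTower k k[X] B]
  {f : k[X]}
  {W : Type*} [CommRing W] [Algebra k W] [Algebra B W] [Algebra k[X] W] [IsScalarTower k[X] B W]
  [IsScalarTower k k[X] W] {Y : W}

theorem art [Module.Finite k[X] W] (I : Ideal W) (a : k) (ha : algebraMap k[X] W (X - C a) ∈ I) :
    IsArtinianRing (W ⧸ I) := by
  have h1 : (algebraMap k (W ⧸ I)).comp (evalRingHom a) = (Ideal.Quotient.mk I).comp (algebraMap k[X] W) := by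
    refine Polynomial.ringHom_ext (fun c => ?_) ?_
    · rw [RingHom.comp_apply, RingHom.comp_apply, coe_evalRingHom, eval_C,
        show (C c : k[X]) = algebraMap k k[X] c from rfl, ← IsScalarTower.algebraMap_apply]
      rfl
    · rw [RingHom.comp_apply, RingHom.comp_apply, coe_evalRingHom, eval_X]
      have h2 : Ideal.Quotient.mk I (algebraMap k[X] W (X - C a)) = 0 := Ideal.Quotient.eq_zero_iff_mem.mpr ha
      rw [map_sub, map_sub, sub_eq_zero] at h2
      rw [h2, show (C a : k[X]) = algebraMap k k[X] a from rfl, ← IsScalarTower.algebraMap_apply]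
      rfl
  have h2 : ((Ideal.Quotient.mk I).comp (algebraMap k[X] W)).Finite :=
    RingHom.Finite.comp (RingHom.Finite.of_surjective _ Ideal.Quotient.mk_surjective)
      (RingHom.finite_algebraMap.mpr inferInstance)
  rw [← h1] at h2
  have h3 : (algebraMap k (W ⧸ I)).Finite := RingHom.Finite.of_comp_finite h2
  have h4 : Module.Finite k (W ⧸ I) := RingHom.finite_algebraMap.mp h3
  exact IsArtinianRing.of_finite k _

theorem Dbl.torsion (h : Dbl (algebraMap k[X] B f) Y) (hinj : Function.Injective (algebraMap k[X] B)) (n : k[X])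
    (hn : n ≠ 0) (w : W) (hw : algebraMap k[X] W n * w = 0) : w = 0 := by
  obtain ⟨α, c, d, h1, -⟩ := h.ex w
  have hnB : algebraMap k[X] B n ≠ 0 := fun h0 => hn (hinj (h0.trans (map_zero _).symm))
  have h2 : algebraMap B W (algebraMap k[X] B n * α) * Y + algebraMap B W (algebraMap k[X] B n * c) = 0 := by
    rw [map_mul, map_mul, mul_assoc, ← mul_add, ← h1, ← IsScalarTower.algebraMap_apply, ← mul_assoc, hw, zero_mul]
  obtain ⟨h3, h4⟩ := h.uniq _ _ h2
  have h5 : α = 0 := (mul_eq_zero.mp h3).resolve_left hnB
  have h6 : c = 0 := (mul_eq_zero.mp h4).resolve_left hnB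
  refine h.reg w ?_
  rw [h1, h5, h6, map_zero, zero_mul, add_zero]

theorem isReduced_quot (I : Ideal W) (h : ∀ w : W, w ^ 2 ∈ I → w ∈ I) : IsReduced (W ⧸ I) := by
  rw [isReduced_iff_pow_one_lt 2 one_lt_two]
  intro x hx
  obtain ⟨w, rfl⟩ := Ideal.Quotient.mk_surjective x
  rw [← map_pow, Ideal.Quotient.eq_zero_iff_mem] at hx
  exact Ideal.Quotient.eq_zero_iff_mem.mpr (h w hx)

/-- Modulo the extension of a maximal ideal, every element is a multiple of its square. -/
theorem exists_mod [CharZero k] [IsIntegrallyClosed B] [Module.Finite k[X] W]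
    (h : Dbl (algebraMap k[X] B f) Y) (hinj : Function.Injective (algebraMap k[X] B)) (hf : Squarefree f)
    (hF : Fib f B) (Q : Ideal W) [Q.IsPrime] (a : k) (ha : algebraMap k[X] W (X - C a) ∈ Q) (w : W) :
    ∃ v w₁ w₂ : W, w = w ^ 2 * v + algebraMap k[X] W (X - C a) * w₁ + Y * w₂ ∧ (Y ∈ Q ∨ w₂ = 0) := by
  have h2 : IsUnit (2 : B) := by
    have : IsUnit (algebraMap k B 2) := (IsUnit.mk0 (2 : k) two_ne_zero).map _
    rwa [map_ofNat] at this
  set t : B := algebraMap k[X] B (X - C a) with ht
  have htW : algebraMap k[X] W (X - C a) = algebraMap B W t := IsScalarTower.algebraMap_apply k[X] B W _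
  have ht0 : t ≠ 0 := fun h0 => X_sub_C_ne_zero a (hinj (h0.trans (map_zero _).symm))
  rw [htW] at ha ⊢
  by_cases hfa : f.eval a = 0
  · obtain ⟨e, he⟩ : X - C a ∣ f := dvd_iff_isRoot.mpr hfa
    have hea : e.eval a ≠ 0 := by
      intro h0
      obtain ⟨e', rfl⟩ : X - C a ∣ e := dvd_iff_isRoot.mpr h0
      have : IsUnit (X - C a) := hf _ ⟨e', by rw [he]; ring⟩
      exact not_isUnit_X_sub_C a this
    have hcop : IsCoprime t (algebraMap k[X] B e) := by
      refine IsCoprime.map ?_ (algebraMap k[X] B)
      rw [(irreducible_X_sub_C a).coprime_iff_not_dvd, dvd_iff_isRoot]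
      exact hea
    have he0 : algebraMap k[X] B e ≠ 0 := by
      intro h0
      have : e = 0 := hinj (h0.trans (map_zero _).symm)
      rw [this] at hea
      exact hea (eval_zero)
    have hYQ : Y ∈ Q := by
      refine ‹Q.IsPrime›.mem_of_pow_mem 2 ?_
      rw [h.sq, he, map_mul, map_mul]
      exact Q.mul_mem_right _ ha
    set I : Ideal W := Ideal.span {algebraMap B W t, Y} with hI
    have hmem : ∀ w : W, w ∈ I ↔ ∃ w₁ w₂, w = algebraMap B W t * w₁ + Y * w₂ := by
      intro w
      rw [hI, Ideal.mem_span_pair]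
      constructor
      · rintro ⟨x, y, rfl⟩; exact ⟨x, y, by ring⟩
      · rintro ⟨x, y, rfl⟩; exact ⟨x, y, by ring⟩
    have hred : IsReduced (W ⧸ I) := by
      refine isReduced_quot I fun w hw => ?_
      rw [hmem] at hw ⊢
      obtain ⟨w₁, w₂, hw⟩ := hw
      exact h.red_root h2 t (algebraMap k[X] B e) (by rw [he, map_mul]) ht0 he0 hcop
        (fun c hc => hF.sq a c hc) (fun c c₁ hc hc₁ => hF.dvd a ht0 c c₁ hc hc₁) w w₁ w₂ hw
    have hart : IsArtinianRing (W ⧸ I) := art I a (by rw [htW]; exact Ideal.subset_span (by simp))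
    obtain ⟨v, hv⟩ := exists_sq_mul (Ideal.Quotient.mk I w)
    obtain ⟨v, rfl⟩ := Ideal.Quotient.mk_surjective v
    have h3 : w - w ^ 2 * v ∈ I := by
      rw [← Ideal.Quotient.eq, map_mul, map_pow]; exact hv
    obtain ⟨w₁, w₂, h4⟩ := (hmem _).mp h3
    exact ⟨v, w₁, w₂, by linear_combination h4, Or.inl hYQ⟩
  · have hcop : IsCoprime t (algebraMap k[X] B f) := by
      refine IsCoprime.map ?_ (algebraMap k[X] B)
      rw [(irreducible_X_sub_C a).coprime_iff_not_dvd, dvd_iff_isRoot]
      exact hfa
    have hf0 : algebraMap k[X] B f ≠ 0 := fun h0 => hf.ne_zero (hinj (h0.trans (map_zero _).symm))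
    set I : Ideal W := Ideal.span {algebraMap B W t} with hI
    have hred : IsReduced (W ⧸ I) := by
      refine isReduced_quot I fun w hw => ?_
      rw [hI, Ideal.mem_span_singleton] at hw ⊢
      exact h.red_unit h2 hf0 t ht0 hcop (fun c hc => hF.dvd_red a hfa c hc) w hw
    have hart : IsArtinianRing (W ⧸ I) := art I a (by rw [htW]; exact Ideal.subset_span (by simp))
    obtain ⟨v, hv⟩ := exists_sq_mul (Ideal.Quotient.mk I w)
    obtain ⟨v, rfl⟩ := Ideal.Quotient.mk_surjective v
    have h3 : w - w ^ 2 * v ∈ I := by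
      rw [← Ideal.Quotient.eq, map_mul, map_pow]; exact hv
    obtain ⟨w₁, h4⟩ := Ideal.mem_span_singleton.mp h3
    exact ⟨v, w₁, 0, by linear_combination h4, Or.inr rfl⟩

end

section

variable {k : Type*} [Field k] [IsAlgClosed k] [CharZero k]
  {B : Type*} [CommRing B] [IsDomain B] [IsIntegrallyClosed B] [Algebra k B] [Algebra k[X] B]
  [IsScalarTower k k[X] B] [Module.Finite k[X] B]
  {f : k[X]}
  {W : Type*} [CommRing W] [Algebra B W] {Y : W} [Algebra (AdjoinRoot (X ^ 2 - C f : k[X][X])) W]

/-- The main algebraic statement. -/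
theorem Dbl.etale (h : Dbl (algebraMap k[X] B f) Y) (hinj : Function.Injective (algebraMap k[X] B))
    (hf : Squarefree f) (c : k) (hc : f.IsRoot c) (hF : Fib f B)
    (hx : ∀ g : k[X], algebraMap (AdjoinRoot (X ^ 2 - C f : k[X][X])) W (AdjoinRoot.of _ g) =
      algebraMap B W (algebraMap k[X] B g))
    (hY : algebraMap (AdjoinRoot (X ^ 2 - C f : k[X][X])) W (AdjoinRoot.root _) = Y) :
    Algebra.Etale (AdjoinRoot (X ^ 2 - C f : k[X][X])) W := by
  set P := AdjoinRoot (X ^ 2 - C f : k[X][X]) with hP
  have hded : IsDedekindDomain P := dedekind f hf c hc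
  let : Algebra k[X] W := ((algebraMap B W).comp (algebraMap k[X] B)).toAlgebra
  have : IsScalarTower k[X] B W := IsScalarTower.of_algebraMap_eq fun _ => rfl
  let : Algebra k W := ((algebraMap k[X] W).comp (algebraMap k k[X])).toAlgebra
  have : IsScalarTower k k[X] W := IsScalarTower.of_algebraMap_eq fun _ => rfl
  have : IsScalarTower k[X] P W := IsScalarTower.of_algebraMap_eq fun g => (hx g).symm
  have hnB : IsNoetherianRing B := IsNoetherianRing.of_finite k[X] B
  have hfinB : Module.Finite B W := h.finite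
  have hfinX : Module.Finite k[X] W := Module.Finite.trans B W
  have hfinP : Module.Finite P W := Module.Finite.of_restrictScalars_finite k[X] P W
  have hft : Algebra.FiniteType k W := by
    have : Algebra.FiniteType k[X] W := inferInstance
    exact Algebra.FiniteType.trans (S := k[X]) inferInstance this
  -- flat
  have htf : Module.IsTorsionFree P W := by
    rw [Module.isTorsionFree_iff_smul_eq_zero]
    intro p w hpw
    by_contra hcon
    push Not at hcon
    obtain ⟨hp, hw⟩ := hcon
    obtain ⟨a, b, rfl⟩ := adjoin_ex f p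
    set p' : P := AdjoinRoot.of _ a - AdjoinRoot.of _ b * AdjoinRoot.root _ with hp'
    have hp'0 : p' ≠ 0 := by
      intro h0
      have h1 := adjoin_uniq f a (-b) (by rw [map_neg, neg_mul, ← sub_eq_add_neg]; exact h0)
      refine hp ?_
      rw [h1.1, neg_eq_zero.mp h1.2, map_zero, zero_mul, zero_add]
    have hprod : p' * (AdjoinRoot.of _ a + AdjoinRoot.of _ b * AdjoinRoot.root _) =
        AdjoinRoot.of _ (a ^ 2 - b ^ 2 * f) := by
      have := adjoin_sq f
      rw [map_sub, map_pow, map_mul, map_pow, ← this, hp']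
      ring
    have hn : a ^ 2 - b ^ 2 * f ≠ 0 := by
      intro h0
      rw [h0, map_zero] at hprod
      exact (mul_ne_zero hp'0 hp) hprod
    refine hw (h.torsion hinj _ hn w ?_)
    rw [IsScalarTower.algebraMap_apply k[X] P W, show algebraMap k[X] P (a ^ 2 - b ^ 2 * f) =
      AdjoinRoot.of _ (a ^ 2 - b ^ 2 * f) from rfl, ← hprod, map_mul, mul_assoc, ← Algebra.smul_def _ w, hpw,
      mul_zero]
  -- unramified
  have hunr : Algebra.FormallyUnramified P W := by
    refine ⟨?_⟩
    have hfinΩ : Module.Finite W (KaehlerDifferential P W) := inferInstance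
    set D := KaehlerDifferential.D P W
    have hDk : ∀ a : k, D (algebraMap k W a) = 0 := by
      intro a
      have : algebraMap k W a = algebraMap P W (AdjoinRoot.of _ (C a)) := by
        rw [hx]; rfl
      rw [this, D.map_algebraMap]
    have key : ∀ Q : Ideal W, Q.IsMaximal → (⊤ : Submodule W (KaehlerDifferential P W)) ≤ Q • ⊤ := by
      intro Q hQ
      rw [← KaehlerDifferential.span_range_derivation, Submodule.span_le]
      rintro _ ⟨w, rfl⟩
      obtain ⟨e, he⟩ := exists_sub_mem (k := k) Q w
      obtain ⟨a, ha⟩ := exists_sub_mem (k := k) Q (algebraMap k[X] W X)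
      have ha' : algebraMap k[X] W (X - C a) ∈ Q := by rw [map_sub]; exact ha
      rw [SetLike.mem_coe]
      have h1 : D w = D (w - algebraMap k W e) := by rw [map_sub, hDk, sub_zero]
      change D w ∈ _
      rw [h1]
      obtain ⟨v, w₁, w₂, h3, h4⟩ := exists_mod h hinj hf hF Q a ha' (w - algebraMap k W e)
      set q := w - algebraMap k W e with hq
      have hsm : ∀ (r : W), r ∈ Q → ∀ m : KaehlerDifferential P W,
          r • m ∈ Q • Submodule.span W (Set.range (KaehlerDifferential.D P W)) := by
        intro r hr m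
        refine Submodule.smul_mem_smul hr ?_
        rw [KaehlerDifferential.span_range_derivation]
        exact Submodule.mem_top
      have h5 : D q = D (q ^ 2 * v) + D (algebraMap k[X] W (X - C a) * w₁) + D (Y * w₂) := by
        conv_lhs => rw [h3]
        rw [map_add, map_add]
      rw [h5]
      refine Submodule.add_mem _ (Submodule.add_mem _ ?_ ?_) ?_
      · rw [D.leibniz, D.leibniz_pow]
        refine Submodule.add_mem _ (hsm _ (Ideal.pow_mem_of_mem Q he 2 (by norm_num)) _) ?_
        have h6 : v • (2 • q ^ (2 - 1) • D q) = q • (2 • v • D q) := by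
          rw [show 2 - 1 = 1 from rfl, pow_one, smul_comm v 2, smul_comm v q, smul_comm q 2]
        rw [h6]
        exact hsm _ he _
      · rw [D.leibniz]
        have h6 : D (algebraMap k[X] W (X - C a)) = 0 := by
          rw [IsScalarTower.algebraMap_apply k[X] P W, D.map_algebraMap]
        rw [h6, smul_zero, add_zero]
        exact hsm _ ha' _
      · rcases h4 with h4 | h4
        · rw [D.leibniz]
          have h6 : D Y = 0 := by rw [← hY, D.map_algebraMap]
          rw [h6, smul_zero, add_zero]
          exact hsm _ h4 _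
        · rw [h4, mul_zero, map_zero]
          exact Submodule.zero_mem _
    -- Nakayama
    have hann : Module.annihilator W (KaehlerDifferential P W) = ⊤ := by
      by_contra hne
      obtain ⟨Q, hQ, hle⟩ := Ideal.exists_le_maximal _ hne
      obtain ⟨r, hr1, hr2⟩ := Submodule.exists_sub_one_mem_and_smul_eq_zero_of_fg_of_le_smul Q ⊤
        (Module.finite_def.mp hfinΩ) (key Q hQ)
      have hrQ : r ∈ Q := hle (Module.mem_annihilator.mpr fun m => hr2 m Submodule.mem_top)
      refine hQ.ne_top ((Ideal.eq_top_iff_one _).mpr ?_)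
      have := Q.sub_mem hrQ hr1
      rwa [sub_sub_cancel] at this
    refine ⟨fun x y => ?_⟩
    have h1 : ∀ z : KaehlerDifferential P W, z = 0 := fun z => by
      have h2 : (1 : W) ∈ Module.annihilator W (KaehlerDifferential P W) := by rw [hann]; trivial
      have := Module.mem_annihilator.mp h2 z
      rwa [one_smul] at this
    rw [h1 x, h1 y]
  have hfp : Algebra.FinitePresentation P W := Algebra.FinitePresentation.of_finiteType.mp inferInstance
  exact Algebra.Etale.of_formallyUnramified_of_flat

end

end K133.W0
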