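import Groth.Agent.CurvSt.K133.Norm
import Groth.Agent.CurvSt.K133.EtMain
import Groth.Agent.CurvSt.K760.Iface
import Groth.Agent.Ega2.Normal

/-!
# Charts of the normalization of a cover of the line in a quadratic extension
-/

set_option autoImplicit false

universe u

open CategoryTheory CategoryTheory.Limits AlgebraicGeometry Polynomial

namespace K133.W0

section Gen

variable (X : Scheme.{u}) [IsIntegral X] (L : Type u) [CommRing L] [Algebra X.functionField L]

/-- `Spec L ⟶ X`, through the generic point. -/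
noncomputable def hMap : Spec (CommRingCat.of L) ⟶ X :=
  Spec.map (CommRingCat.ofHom (algebraMap X.functionField L)) ≫ X.fromSpecStalk (genericPoint X)

variable {X}

theorem hMap_le (U : X.Opens) [Nonempty U] : ⊤ ≤ (hMap X L) ⁻¹ᵁ U := by
  intro x _
  change hMap X L x ∈ U
  have h1 : hMap X L x ∈ Set.range (X.fromSpecStalk (genericPoint X)) :=
    ⟨Spec.map (CommRingCat.ofHom (algebraMap X.functionField L)) x, rfl⟩
  rw [Scheme.range_fromSpecStalk] at h1
  refine h1.mem_open U.2 ?_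
  obtain ⟨y⟩ := ‹Nonempty U›
  exact (genericPoint_specializes y.1).mem_open U.2 y.2

theorem toL_hMap {U : X.Opens} [Nonempty U] (hU : IsAffineOpen U) :
    toL (hMap X L) U (hMap_le L U) =
      X.germToFunctionField U ≫ CommRingCat.ofHom (algebraMap X.functionField L) := by
  refine toL_eq_of_fromSpec _ _ _ hU _ ?_
  rw [Spec.map_comp, Category.assoc]
  unfold hMap
  congr 1
  have hmem : genericPoint X ∈ U := by
    obtain ⟨y⟩ := ‹Nonempty U›
    exact (genericPoint_specializes y.1).mem_open U.2 y.2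
  exact hU.fromSpecStalk_eq_fromSpecStalk hmem

theorem isAffineHom_hMap {R : Type u} [CommRing R] (q : X ⟶ Spec (CommRingCat.of R)) [IsSeparated q] :
    IsAffineHom (hMap X L) := IsAffineHom.of_comp _ q

end Gen

/-- The chart of an affine morphism over an affine open. -/
theorem exists_isPullback_fromSpec {X Y : Scheme.{u}} (F : X ⟶ Y) [IsAffineHom F] {A : CommRingCat.{u}}
    (v : Spec A ⟶ Y) [IsOpenImmersion v] (hU : IsAffineOpen (F ⁻¹ᵁ v.opensRange)) :
    ∃ ψ : A ⟶ Γ(X, F ⁻¹ᵁ v.opensRange), IsPullback hU.fromSpec (Spec.map ψ) F v := by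
  have hr : Set.range (hU.fromSpec ≫ F) ⊆ Set.range v := by
    rintro _ ⟨x, rfl⟩
    have : hU.fromSpec x ∈ F ⁻¹ᵁ v.opensRange := by
      rw [← SetLike.mem_coe, ← hU.range_fromSpec]
      exact ⟨x, rfl⟩
    exact this
  refine ⟨Spec.preimage (IsOpenImmersion.lift v (hU.fromSpec ≫ F) hr), ?_⟩
  rw [Spec.map_preimage]
  refine (IsOpenImmersion.isPullback _ _ _ _ (IsOpenImmersion.lift_fac _ _ _).symm ?_).flip
  rw [hU.opensRange_fromSpec]

theorem isPullback_app {X Y : Scheme.{u}} (g : X ⟶ Y) [IsAffineHom g] {U : Y.Opens} (hU : IsAffineOpen U) :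
    IsPullback (hU.preimage g).fromSpec (Spec.map (g.app U)) g hU.fromSpec := by
  refine (IsOpenImmersion.isPullback _ _ _ _ ?_ ?_).flip
  · rw [Scheme.Hom.app_eq_appLE, IsAffineOpen.SpecMap_appLE_fromSpec g hU (hU.preimage g) le_rfl]
  · rw [hU.opensRange_fromSpec, (hU.preimage g).opensRange_fromSpec]

theorem Quad.change {E L : Type*} [Field E] [CharZero E] [CommRing L] [Algebra E L] {σ : L →ₐ[E] L} {y : L} {φ : E}
    (h : Quad σ y φ) (w : L) (ψ : E) (hψ : ψ ≠ 0) (hw : w ^ 2 = algebraMap E L ψ) (hσ : σ w = -w) : Quad σ w ψ := by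
  obtain ⟨a, b, hab⟩ := h.ex w
  have h1 : algebraMap E L (2 * a) + algebraMap E L 0 * y = 0 := by
    have h2 : σ w = algebraMap E L a - algebraMap E L b * y := by
      rw [hab, map_add, map_mul, σ.commutes, σ.commutes, h.neg]; ring
    rw [hσ, hab] at h2
    rw [map_mul, map_ofNat, map_zero]
    linear_combination -h2
  have ha : a = 0 := by
    have := (h.uniq _ _ h1).1
    exact (mul_eq_zero.mp this).resolve_left two_ne_zero
  rw [ha, map_zero, zero_add] at hab
  have hb : b ≠ 0 := by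
    rintro rfl
    rw [map_zero, zero_mul] at hab
    rw [hab, zero_pow two_ne_zero] at hw
    exact hψ (h.injective (by rw [← hw, map_zero]))
  refine ⟨hw, hψ, hσ, fun z => ?_, fun a' c hac => ?_⟩
  · obtain ⟨a', c, rfl⟩ := h.ex z
    refine ⟨a', c / b, ?_⟩
    rw [hab, ← mul_assoc, ← map_mul, div_mul_cancel₀ _ hb]
  · rw [hab, ← mul_assoc, ← map_mul] at hac
    obtain ⟨h3, h4⟩ := h.uniq _ _ hac
    exact ⟨h3, (mul_eq_zero.mp h4).resolve_right hb⟩

section Chart

variable {k : Type u} [Field k] [IsAlgClosed k] [CharZero k] {X Y P₀ : Scheme.{u}} [IsIntegral X]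
  (hX : Pi1.IsNormalScheme X) (F : X ⟶ Y) [IsAffineHom F] {L : Type u} [CommRing L] [Algebra X.functionField L]
  [QuasiCompact (hMap X L)] [QuasiSeparated (hMap X L)] {σ : L →ₐ[X.functionField] L} {y : L}
  {φ : X.functionField} (hQ : Quad σ y φ) (π₀ : P₀ ⟶ Y) (σ₀ : P₀ ⟶ P₀)
  (p₀ : (hMap X L).normalization ⟶ P₀) (hp : p₀ ≫ π₀ = (hMap X L).fromNormalization ≫ F)
  (hσ : Spec.map (CommRingCat.ofHom σ.toRingHom) ≫ (hMap X L).toNormalization ≫ p₀ =
    (hMap X L).toNormalization ≫ p₀ ≫ σ₀)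
  (v : Spec (CommRingCat.of k[X]) ⟶ Y) [IsOpenImmersion v] [Nonempty (F ⁻¹ᵁ v.opensRange)]
  (f : k[X]) (hf : Squarefree f) (c : k) (hc : f.IsRoot c)
  (j : Spec (CommRingCat.of (AdjoinRoot (Polynomial.X ^ 2 - C f : k[X][X]))) ⟶ P₀)
  (hj : IsPullback j (Spec.map (CommRingCat.ofHom (AdjoinRoot.of (Polynomial.X ^ 2 - C f : k[X][X])))) π₀ v)
  (hjσ : j ≫ σ₀ = Spec.map (CommRingCat.ofHom (K760.Hurw.neg f)) ≫ j)
  (hB : ∀ (B : Type u) [CommRing B] [Algebra k B] [Algebra k[X] B] [IsScalarTower k k[X] B]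
    (jB : Spec (CommRingCat.of B) ⟶ X),
    IsPullback jB (Spec.map (CommRingCat.ofHom (algebraMap k[X] B))) F v →
      Module.Finite k[X] B ∧ Function.Injective (algebraMap k[X] B) ∧ Fib f B)

include hX hQ hp hσ hf hc hj hjσ hB in
theorem chart_etale : ∃ (W : CommRingCat.{u})
    (τ : CommRingCat.of (AdjoinRoot (Polynomial.X ^ 2 - C f : k[X][X])) ⟶ W)
    (jW : Spec W ⟶ (hMap X L).normalization), IsPullback jW (Spec.map τ) p₀ j ∧ τ.hom.Etale ∧ τ.hom.Finite := by
  set U := F ⁻¹ᵁ v.opensRange with hUdef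
  set h := hMap X L with hh
  set g := h.fromNormalization with hg
  have hU : IsAffineOpen U := (isAffineOpen_opensRange v).preimage F
  obtain ⟨ψ, hψ⟩ := exists_isPullback_fromSpec F v hU
  have hW := isPullback_app g hU
  have hW2 := hW.paste_vert hψ
  rw [← hp] at hW2
  have hUh : ⊤ ≤ h ⁻¹ᵁ U := hMap_le L U
  -- the lift
  have hcomm : ((hU.preimage g).fromSpec ≫ p₀) ≫ π₀ = (Spec.map (g.app U) ≫ Spec.map ψ) ≫ v := by
    rw [Category.assoc]; exact hW2.w
  obtain ⟨τ, hτ⟩ := Spec.map_surjective (hj.lift ((hU.preimage g).fromSpec ≫ p₀)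
    (Spec.map (g.app U) ≫ Spec.map ψ) hcomm)
  have hτ1 : Spec.map τ ≫ j = (hU.preimage g).fromSpec ≫ p₀ := by rw [hτ, hj.lift_fst]
  have hτ2 : Spec.map τ ≫ Spec.map (CommRingCat.ofHom (AdjoinRoot.of (Polynomial.X ^ 2 - C f : k[X][X]))) =
      Spec.map (g.app U) ≫ Spec.map ψ := by rw [hτ, hj.lift_snd]
  have hsq : IsPullback (hU.preimage g).fromSpec (Spec.map τ) p₀ j :=
    IsPullback.of_bot (by rw [hτ2]; exact hW2) hτ1.symm hj
  refine ⟨_, τ, (hU.preimage g).fromSpec, hsq, ?_⟩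
  -- algebra
  have hτ3 : CommRingCat.ofHom (AdjoinRoot.of (Polynomial.X ^ 2 - C f : k[X][X])) ≫ τ = ψ ≫ g.app U := by
    apply Spec.map_injective
    rw [Spec.map_comp, Spec.map_comp, hτ2]
  let : Algebra k[X] Γ(X, U) := ψ.hom.toAlgebra
  let : Algebra k Γ(X, U) := ((algebraMap k[X] Γ(X, U)).comp (algebraMap k k[X])).toAlgebra
  have : IsScalarTower k k[X] Γ(X, U) := IsScalarTower.of_algebraMap_eq fun _ => rfl
  obtain ⟨hfin, hinj, hF⟩ := hB Γ(X, U) hU.fromSpec hψ
  have hic : IsIntegrallyClosed Γ(X, U) :=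
    Groth.Agent.Ega2.Normal.isIntegrallyClosed_of_isAffineOpen hX hU inferInstance
  have hfr : IsFractionRing Γ(X, U) X.functionField := functionField_isFractionRing_of_isAffineOpen X U hU
  have hE : CharZero X.functionField := charZero_of_injective_ringHom
    ((algebraMap Γ(X, U) X.functionField).comp (algebraMap k Γ(X, U))).injective
  let : Algebra Γ(X, U) L := (toL h U hUh).hom.toAlgebra
  have : IsScalarTower Γ(X, U) X.functionField L := IsScalarTower.of_algebraMap_eq fun a => by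
    change (toL h U hUh).hom a = _
    rw [toL_hMap L hU]
    rfl
  let : Algebra Γ(X, U) Γ(h.normalization, g ⁻¹ᵁ U) := (g.app U).hom.toAlgebra
  let β := toL h.toNormalization (g ⁻¹ᵁ U) (norm_le h hUh)
  let : Algebra Γ(h.normalization, g ⁻¹ᵁ U) L := β.hom.toAlgebra
  have : IsScalarTower Γ(X, U) Γ(h.normalization, g ⁻¹ᵁ U) L := IsScalarTower.of_algebraMap_eq fun a => by
    change (toL h U hUh).hom a = β.hom ((g.app U).hom a)
    rw [← norm_comp h hUh]
    rfl
  obtain ⟨hk1, hk2⟩ := norm_key h hU hUh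
  have : IsIntegralClosure Γ(h.normalization, g ⁻¹ᵁ U) Γ(X, U) L := ⟨hk1, fun {z} => (hk2 z).symm⟩
  let : Algebra (AdjoinRoot (Polynomial.X ^ 2 - C f : k[X][X])) Γ(h.normalization, g ⁻¹ᵁ U) := τ.hom.toAlgebra
  have hx : ∀ p : k[X], algebraMap (AdjoinRoot (Polynomial.X ^ 2 - C f : k[X][X])) Γ(h.normalization, g ⁻¹ᵁ U) (AdjoinRoot.of _ p) =
      algebraMap Γ(X, U) Γ(h.normalization, g ⁻¹ᵁ U) (algebraMap k[X] Γ(X, U) p) := fun p => congrArg (fun φ => φ.hom p) hτ3
  set Yr : Γ(h.normalization, g ⁻¹ᵁ U) := algebraMap (AdjoinRoot (Polynomial.X ^ 2 - C f : k[X][X])) Γ(h.normalization, g ⁻¹ᵁ U) (AdjoinRoot.root _) with hYr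
  set y' : L := algebraMap Γ(h.normalization, g ⁻¹ᵁ U) L Yr with hy'
  have hne : algebraMap Γ(X, U) X.functionField (algebraMap k[X] Γ(X, U) f) ≠ 0 := by
    intro h0
    exact hf.ne_zero (hinj (IsFractionRing.injective Γ(X, U) X.functionField
      (by rw [h0, map_zero, map_zero])))
  have hy2 : y' ^ 2 = algebraMap X.functionField L (algebraMap Γ(X, U) X.functionField
      (algebraMap k[X] Γ(X, U) f)) := by
    rw [hy', hYr, ← map_pow, ← map_pow, adjoin_sq f, hx,
      ← IsScalarTower.algebraMap_apply Γ(X, U) Γ(h.normalization, g ⁻¹ᵁ U) L,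
      ← IsScalarTower.algebraMap_apply Γ(X, U) X.functionField L]
  have hσy : σ y' = -y' := by
    have hmono : Mono j := by
      have : IsOpenImmersion j := MorphismProperty.of_isPullback hj.flip inferInstance
      infer_instance
    have h1 : h.toNormalization = Spec.map β ≫ (hU.preimage g).fromSpec :=
      (toL_fromSpec h.toNormalization (g ⁻¹ᵁ U) (norm_le h hUh) (hU.preimage g)).symm
    have h2 : h.toNormalization ≫ p₀ = Spec.map β ≫ Spec.map τ ≫ j := by
      rw [hτ1, ← Category.assoc, ← h1]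
    have h3 := hσ
    rw [← Category.assoc (h.toNormalization), h2] at h3
    simp only [Category.assoc] at h3
    rw [hjσ] at h3
    simp only [← Category.assoc] at h3
    rw [cancel_mono j] at h3
    simp only [← Spec.map_comp] at h3
    have h4 := Spec.map_injective h3
    have h5 := congrArg (fun φ => φ.hom (AdjoinRoot.root (Polynomial.X ^ 2 - C f : k[X][X]))) h4
    have h6 : K760.Hurw.neg f (AdjoinRoot.root (Polynomial.X ^ 2 - C f : k[X][X])) = -AdjoinRoot.root _ :=
      AdjoinRoot.lift_root _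
    change σ (β.hom (τ.hom (AdjoinRoot.root _))) = β.hom (τ.hom (K760.Hurw.neg f (AdjoinRoot.root _))) at h5
    rw [h6, map_neg, map_neg] at h5
    exact h5
  have hQ' : Quad σ y' (algebraMap Γ(X, U) X.functionField (algebraMap k[X] Γ(X, U) f)) :=
    hQ.change y' _ hne hy2 hσy
  have h2 : IsUnit (2 : Γ(X, U)) := by
    have : IsUnit (algebraMap k Γ(X, U) 2) := (IsUnit.mk0 (2 : k) two_ne_zero).map _
    rwa [map_ofNat] at this
  have hD : Dbl (algebraMap k[X] Γ(X, U) f) Yr := hQ'.dbl h2 _ rfl Yr rfl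
  have het := hD.etale hinj hf c hc hF hx rfl
  refine ⟨RingHom.etale_algebraMap.mpr het, ?_⟩
  have hnB : IsNoetherianRing Γ(X, U) := IsNoetherianRing.of_finite k[X] Γ(X, U)
  have hfinB : Module.Finite Γ(X, U) Γ(h.normalization, g ⁻¹ᵁ U) := hD.finite
  have h7 : ((algebraMap Γ(X, U) Γ(h.normalization, g ⁻¹ᵁ U)).comp (algebraMap k[X] Γ(X, U))).Finite :=
    RingHom.Finite.comp (RingHom.finite_algebraMap.mpr hfinB) (RingHom.finite_algebraMap.mpr hfin)
  have h8 : (algebraMap Γ(X, U) Γ(h.normalization, g ⁻¹ᵁ U)).comp (algebraMap k[X] Γ(X, U)) =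
      τ.hom.comp (AdjoinRoot.of (Polynomial.X ^ 2 - C f : k[X][X])) := RingHom.ext fun p => (hx p).symm
  rw [h8] at h7
  exact RingHom.Finite.of_comp_finite h7

end Chart

end K133.W0
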