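import Groth.Agent.CurvSt.K133.Quad
import Mathlib.RingTheory.Coprime.Basic

/-!
# Fibres of `W = C ⊕ J y⁻¹` over the double cover are reduced
-/

set_option autoImplicit false

namespace K133.W0

variable {C W : Type*} [CommRing C] [IsDomain C] [CommRing W] [Algebra C W] {f : C} {Y : W}

theorem Dbl.sq_eq (h : Dbl f Y) {w : W} {α c : C} (hw : w * Y = algebraMap C W α * Y + algebraMap C W c) :
    w ^ 2 * Y ^ 2 = algebraMap C W (α ^ 2 * f + c ^ 2) + algebraMap C W (2 * α * c) * Y := by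
  have : w ^ 2 * Y ^ 2 = (w * Y) ^ 2 := by ring
  rw [this, hw]
  have h1 : (algebraMap C W α * Y + algebraMap C W c) ^ 2 = algebraMap C W α ^ 2 * Y ^ 2 +
      algebraMap C W c ^ 2 + 2 * algebraMap C W α * algebraMap C W c * Y := by ring
  rw [h1, h.sq]
  simp only [map_add, map_mul, map_pow, map_ofNat]

theorem Dbl.coeff (h : Dbl f Y) {a b a' b' : C}
    (hab : algebraMap C W a + algebraMap C W b * Y = algebraMap C W a' + algebraMap C W b' * Y) :
    a = a' ∧ b = b' := by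
  have h1 : algebraMap C W (b - b') * Y + algebraMap C W (a - a') = 0 := by
    rw [map_sub, map_sub]
    linear_combination hab
  obtain ⟨h2, h3⟩ := h.uniq _ _ h1
  exact ⟨sub_eq_zero.mp h3, sub_eq_zero.mp h2⟩

theorem Dbl.ext (h : Dbl f Y) {w w' : W} (hw : w * Y = w' * Y) : w = w' := by
  have : (w - w') * Y = 0 := by rw [sub_mul, hw, sub_self]
  exact sub_eq_zero.mp (h.reg _ this)

/-- Case `f` invertible modulo `t`. -/
theorem Dbl.red_unit (h : Dbl f Y) (h2 : IsUnit (2 : C)) (hf : f ≠ 0) (t : C) (ht : t ≠ 0)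
    (hcop : IsCoprime t f) (hred : ∀ c : C, t ∣ c ^ 2 → t ∣ c) (w : W) (hw : algebraMap C W t ∣ w ^ 2) :
    algebraMap C W t ∣ w := by
  obtain ⟨w', hw'⟩ := hw
  obtain ⟨α, c, d, h3, h4⟩ := h.ex w
  obtain ⟨α', c', d', h3', h4'⟩ := h.ex w'
  have e1 := h.sq_eq h3
  have e2 : w ^ 2 * Y ^ 2 = algebraMap C W (t * α' * f) + algebraMap C W (t * c') * Y := by
    have : w ^ 2 * Y ^ 2 = algebraMap C W t * (w' * Y) * Y := by rw [hw']; ring
    rw [this, h3']
    have h5 : algebraMap C W t * (algebraMap C W α' * Y + algebraMap C W c') * Y =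
        algebraMap C W t * algebraMap C W α' * Y ^ 2 + algebraMap C W t * algebraMap C W c' * Y := by ring
    rw [h5, h.sq]
    simp only [map_mul]
  obtain ⟨e3, e4⟩ := h.coeff (e1.symm.trans e2)
  obtain ⟨i2, hi2⟩ := h2.exists_left_inv
  have hαc : t ∣ α * c := ⟨i2 * c', by linear_combination (i2) * e4 - (α * c) * hi2⟩
  obtain ⟨u, v, huv⟩ := hcop
  -- `u t + v f = 1`
  have hf_dvd : ∀ x : C, t ∣ x * f → t ∣ x := by
    rintro x ⟨z, hz⟩
    exact ⟨u * x + v * z, by linear_combination (-x) * huv + v * hz⟩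
  have hα3 : t ∣ α ^ 3 := by
    refine hf_dvd _ ?_
    obtain ⟨z, hz⟩ := hαc
    exact ⟨α * (α' * f) - z * c, by linear_combination α * e3 - c * hz⟩
  have hα : t ∣ α := by
    have h5 : t ∣ α ^ 2 := hred _ (by
      have : α ^ 3 ∣ (α ^ 2) ^ 2 := ⟨α, by ring⟩
      exact hα3.trans this)
    exact hred _ h5
  have hc : t ∣ c := by
    refine hred _ ?_
    obtain ⟨z, hz⟩ := hα
    exact ⟨α' * f - z * α * f, by linear_combination e3 - α * f * hz⟩
  obtain ⟨α₁, rfl⟩ := hα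
  obtain ⟨c₁, rfl⟩ := hc
  have hd1 : c₁ ^ 2 = f * (u ^ 2 * d + (2 * u * t * v + v ^ 2 * f) * c₁ ^ 2) := by
    have h5 : c₁ ^ 2 = (u * t + v * f) ^ 2 * c₁ ^ 2 := by rw [huv]; ring
    linear_combination h5 + u ^ 2 * h4
  obtain ⟨w₁, hw₁⟩ := h.build α₁ c₁ _ hd1
  refine ⟨w₁, h.ext ?_⟩
  rw [h3, mul_assoc, hw₁, map_mul, map_mul]
  ring

/-- Case of a simple root `t` of `f = t e`. -/
theorem Dbl.red_root (h : Dbl f Y) (h2 : IsUnit (2 : C)) (t e : C) (hte : f = t * e) (ht : t ≠ 0) (he : e ≠ 0)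
    (hcop : IsCoprime t e) (hN : ∀ c ∈ (Ideal.span {t}).radical, t ∣ c ^ 2)
    (hT : ∀ c c₁ : C, c ^ 2 = t * c₁ → c₁ ∈ (Ideal.span {t}).radical → t ∣ c)
    (w w₁ w₂ : W) (hw : w ^ 2 = algebraMap C W t * w₁ + Y * w₂) :
    ∃ w₁' w₂' : W, w = algebraMap C W t * w₁' + Y * w₂' := by
  have hf : f ≠ 0 := by rw [hte]; exact mul_ne_zero ht he
  obtain ⟨α, c, d, h3, h4⟩ := h.ex w
  obtain ⟨α₁, c₁, d₁, h3₁, h4₁⟩ := h.ex w₁
  obtain ⟨α₂, c₂, d₂, h3₂, h4₂⟩ := h.ex w₂
  have e1 := h.sq_eq h3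
  have e2 : w ^ 2 * Y ^ 2 = algebraMap C W (t * α₁ * f + f * c₂) + algebraMap C W (t * c₁ + f * α₂) * Y := by
    have : w ^ 2 * Y ^ 2 = algebraMap C W t * (w₁ * Y) * Y + Y ^ 2 * (w₂ * Y) := by rw [hw]; ring
    rw [this, h3₁, h3₂]
    have h5 : algebraMap C W t * (algebraMap C W α₁ * Y + algebraMap C W c₁) * Y =
        algebraMap C W t * algebraMap C W α₁ * Y ^ 2 + algebraMap C W t * algebraMap C W c₁ * Y := by ring
    rw [h5, h.sq]
    simp only [map_mul, map_add]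
    ring
  obtain ⟨e3, e4⟩ := h.coeff (e1.symm.trans e2)
  have e5 : α ^ 2 + d = t * α₁ + c₂ := by
    apply mul_left_cancel₀ hf
    linear_combination e3 - h4
  obtain ⟨i2, hi2⟩ := h2.exists_left_inv
  obtain ⟨γ, hγ⟩ : t ∣ α * c :=
    ⟨i2 * (c₁ + e * α₂), by linear_combination (i2) * e4 - (α * c) * hi2 + i2 * α₂ * hte⟩
  set N := (Ideal.span {t}).radical with hNdef
  have mem_of_dvd : ∀ (x : C) (n : ℕ), t ∣ x ^ n → x ∈ N := fun x n hx =>
    ⟨n, Ideal.mem_span_singleton.mpr hx⟩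
  have hc2N : c₂ ∈ N := mem_of_dvd _ 2 ⟨e * d₂, by rw [h4₂, hte]; ring⟩
  have htN : t ∈ N := mem_of_dvd _ 1 (by rw [pow_one])
  have hcN : c ∈ N := mem_of_dvd _ 2 ⟨e * d, by rw [h4, hte]; ring⟩
  have h6 : α ^ 2 + d ∈ N := by
    rw [e5]; exact N.add_mem (N.mul_mem_right _ htN) hc2N
  obtain ⟨u, v, huv⟩ := hcop
  have he_mem : ∀ x : C, x * e ∈ N → x ∈ N := by
    intro x hx
    have : x = u * x * t + v * (x * e) := by linear_combination (-x) * huv
    rw [this]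
    exact N.add_mem (N.mul_mem_left _ htN) (N.mul_mem_left _ hx)
  have h7 : α * d ∈ N := by
    refine he_mem _ ?_
    have h8 : α * d * e = γ * c := by
      apply mul_left_cancel₀ ht
      linear_combination (-α) * h4 + c * hγ - α * d * hte
    rw [h8]
    exact N.mul_mem_left _ hcN
  have hα3 : α ^ 3 ∈ N := by
    have : α ^ 3 = α * (α ^ 2 + d) - α * d := by ring
    rw [this]
    exact N.sub_mem (N.mul_mem_left _ h6) h7
  have hα : α ∈ N := Ideal.radical_isRadical (Ideal.span {t}) ⟨3, hα3⟩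
  have hd : d ∈ N := by
    have : d = (α ^ 2 + d) - α * α := by ring
    rw [this]
    exact N.sub_mem h6 (N.mul_mem_left _ hα)
  obtain ⟨c', rfl⟩ := hT c (e * d) (by rw [h4, hte]; ring) (N.mul_mem_left _ hd)
  obtain ⟨z, hz⟩ := hN α hα
  obtain ⟨w₁', hw₁'⟩ := h.build (u * α) (u * (t * c')) (u ^ 2 * d) (by linear_combination u ^ 2 * h4)
  obtain ⟨w₂', hw₂'⟩ := h.build (v * c') (v * e * α) (v ^ 2 * e * z) (by
    rw [hte]; linear_combination v ^ 2 * e ^ 2 * hz)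
  refine ⟨w₁', w₂', h.ext ?_⟩
  have h9 : (algebraMap C W t * w₁' + Y * w₂') * Y = algebraMap C W t * (w₁' * Y) + Y * (w₂' * Y) := by ring
  rw [h9, hw₁', hw₂', h3]
  have h10 : algebraMap C W t * (algebraMap C W (u * α) * Y + algebraMap C W (u * (t * c'))) +
      Y * (algebraMap C W (v * c') * Y + algebraMap C W (v * e * α)) =
      algebraMap C W (t * (u * α) + v * e * α) * Y + (algebraMap C W (t * (u * (t * c'))) +
        algebraMap C W (v * c') * Y ^ 2) := by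
    simp only [map_mul, map_add]; ring
  rw [h10, h.sq, ← map_mul, ← map_add]
  congr 2
  · congr 1
    linear_combination (-α) * huv
  · rw [hte]
    linear_combination (-(t * c')) * huv

end K133.W0
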