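import Groth.Agent.CurvSt.K133.TrMain
import Groth.Agent.CurvSt.K760.Iface

/-!
# (DISC): the discriminant of a Dedekind cover of the line with at most one double point in each fibre is squarefree
-/

set_option autoImplicit false

universe u

open Polynomial K133.TrTrick

namespace K133.Hurw

theorem ker_eval {k : Type*} [Field k] (c : k) :
    RingHom.ker (Polynomial.evalRingHom c) = Ideal.span {(X - C c : k[X])} := by
  ext p
  rw [RingHom.mem_ker, Ideal.mem_span_singleton, Polynomial.coe_evalRingHom, ← IsRoot.def, dvd_iff_isRoot]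

/-- the quotient map `C → C / (x - c)` is compatible with the evaluation at `c`. -/
theorem mk_comp {k B : Type*} [Field k] [CommRing B] [Algebra k B] [Algebra k[X] B] [IsScalarTower k k[X] B]
    (c : k) (a : k[X]) :
    Ideal.Quotient.mk (Ideal.span {algebraMap k[X] B (X - C c)}) (algebraMap k[X] B a) =
      algebraMap k (B ⧸ Ideal.span {algebraMap k[X] B (X - C c)}) (Polynomial.evalRingHom c a) := by
  rw [← Ideal.Quotient.mk_algebraMap, Ideal.Quotient.eq, IsScalarTower.algebraMap_apply k k[X] B, ← map_sub,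
    Ideal.mem_span_singleton]
  refine map_dvd _ ?_
  rw [Polynomial.algebraMap_eq, dvd_iff_isRoot]
  simp [IsRoot.def]

theorem nilOne_of_finrank {k B : Type*} [Field k] [CommRing B] [Algebra k B] (I : Ideal B)
    [Module.Finite k (B ⧸ I)]
    (h : Module.finrank k (B ⧸ I) ≤ Module.finrank k (B ⧸ I.radical) + 1) : NilOne k (B ⧸ I) := by
  have hle : I ≤ I.radical := Ideal.le_radical
  set g : (B ⧸ I) →ₐ[k] (B ⧸ I.radical) := Ideal.Quotient.factorₐ k hle with hg
  have hgs : Function.Surjective g := Ideal.Quotient.factor_surjective hle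
  have hk : ∀ x : B ⧸ I, IsNilpotent x → x ∈ LinearMap.ker g.toLinearMap := by
    intro x hx
    rw [LinearMap.mem_ker]
    obtain ⟨y, rfl⟩ := Ideal.Quotient.mk_surjective x
    obtain ⟨n, hn⟩ := hx
    have h1 : y ^ n ∈ I := by
      rw [← map_pow, Ideal.Quotient.eq_zero_iff_mem] at hn
      exact hn
    have h2 : y ∈ I.radical := ⟨n, h1⟩
    exact (Ideal.Quotient.eq_zero_iff_mem).mpr h2
  have hrk : Module.finrank k (LinearMap.ker g.toLinearMap) ≤ 1 := by
    have h1 := LinearMap.finrank_range_add_finrank_ker g.toLinearMap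
    have h2 : Module.finrank k (LinearMap.range g.toLinearMap) = Module.finrank k (B ⧸ I.radical) := by
      have : LinearMap.range g.toLinearMap = ⊤ := LinearMap.range_eq_top.mpr hgs
      rw [this, finrank_top]
    omega
  rw [finrank_le_one_iff] at hrk
  obtain ⟨v, hv⟩ := hrk
  intro x y hx hx0 hy
  obtain ⟨a, ha⟩ := hv ⟨x, hk x hx⟩
  obtain ⟨b, hb⟩ := hv ⟨y, hk y hy⟩
  have ha' : a • (v : B ⧸ I) = x := congrArg Subtype.val ha
  have hb' : b • (v : B ⧸ I) = y := congrArg Subtype.val hb
  have ha0 : a ≠ 0 := fun h0 => hx0 (by rw [← ha', h0, zero_smul])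
  refine ⟨b * a⁻¹, ?_⟩
  rw [← ha', ← hb', smul_smul, mul_assoc, inv_mul_cancel₀ ha0, mul_one]

theorem disc_main : K760.Hurw.DiscStmt.{u} := by
  intro k _ _ _ B _ _ _ _ _ _ _ _ h
  have hinj : Function.Injective (algebraMap k[X] B) := FaithfulSMul.algebraMap_injective _ _
  have key : ∀ c : k, ¬ (X - C c) ^ 2 ∣ Algebra.discr k[X] (Module.Free.chooseBasis k[X] B) := by
    intro c
    have hfin : Module.Finite k (B ⧸ Ideal.span {algebraMap k[X] B (X - C c)}) := by
      obtain ⟨e, -⟩ := exists_basis (Polynomial.evalRingHom c) (fun a => ⟨C a, by simp⟩) (X - C c) (ker_eval c)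
        (Ideal.Quotient.mk (Ideal.span {algebraMap k[X] B (X - C c)})) Ideal.Quotient.mk_surjective (mk_comp c)
        (Ideal.mk_ker) (Module.Free.chooseBasis k[X] B)
      exact Module.Finite.of_basis e
    refine not_sq_dvd (Polynomial.evalRingHom c) (fun a => ⟨C a, by simp⟩) (X - C c) (ker_eval c)
      (Ideal.Quotient.mk (Ideal.span {algebraMap k[X] B (X - C c)})) Ideal.Quotient.mk_surjective (mk_comp c)
      (Ideal.mk_ker) ?_ (Module.Free.chooseBasis k[X] B) (nilOne_of_finrank _ (h c))
    intro h0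
    exact X_sub_C_ne_zero c (hinj (h0.trans (map_zero _).symm))
  intro x hx
  by_cases hx0 : x = 0
  · exfalso
    rw [hx0, zero_mul, zero_dvd_iff] at hx
    exact key 0 (hx ▸ dvd_zero _)
  by_contra hu
  have hdeg : x.degree ≠ 0 := fun hd => hu (Polynomial.isUnit_iff_degree_eq_zero.mpr hd)
  obtain ⟨c, hc⟩ := IsAlgClosed.exists_root x hdeg
  refine key c (dvd_trans ?_ hx)
  rw [sq]
  exact mul_dvd_mul (dvd_iff_isRoot.mpr hc) (dvd_iff_isRoot.mpr hc)

end K133.Hurw
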