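import Groth.Agent.CurvSt.K133.TrTrick

/-!
# The discriminant of a finite free algebra is not divisible by `t²` iff the nilradical mod `t` is small
-/

set_option autoImplicit false

open Matrix

namespace K133.TrTrick

section Main

variable {A k C D : Type*} [CommRing A] [Field k] [CommRing C] [CommRing D] [Algebra A C] [Algebra k D]
  (f : A →+* k) (hf : Function.Surjective f) (t : A) (hker : RingHom.ker f = Ideal.span {t})
  (π : C →+* D) (hπ : Function.Surjective π) (hcomp : ∀ a : A, π (algebraMap A C a) = algebraMap k D (f a))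
  (hkerπ : RingHom.ker π = Ideal.span {algebraMap A C t})

/-- the nilpotent elements of `D` form a space of dimension at most one -/
def NilOne (k D : Type*) [Field k] [CommRing D] [Algebra k D] : Prop :=
  ∀ x y : D, IsNilpotent x → x ≠ 0 → IsNilpotent y → ∃ c : k, y = c • x

theorem NilOne.sq {k D : Type*} [Field k] [CommRing D] [Algebra k D] (h : NilOne k D) (x : D)
    (hx : IsNilpotent x) : x ^ 2 = 0 := by
  by_cases hx0 : x = 0
  · rw [hx0]; ring
  obtain ⟨c, hc⟩ := h x (x ^ 2) hx hx0 (hx.pow_of_pos two_ne_zero)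
  by_cases hc0 : c = 0
  · rw [hc, hc0, zero_smul]
  exfalso
  have hu : IsUnit (algebraMap k D c) := (IsUnit.mk0 c hc0).map _
  have hu2 : IsUnit (x - algebraMap k D c) := by
    have := (hx.isUnit_add_left_of_commute hu.neg (Commute.all _ _))
    rwa [← sub_eq_neg_add] at this
  have h1 : (x - algebraMap k D c) * x = 0 := by
    rw [sub_mul, ← Algebra.smul_def, ← hc]; ring
  exact hx0 ((hu2.mul_right_eq_zero).mp h1)

include hf hker hπ hcomp hkerπ in
/-- If `t²` does not divide the discriminant, the nilradical modulo `t` has dimension at most one. -/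
theorem nilOne [IsDomain A] (ht : t ≠ 0) {ι : Type*} [Fintype ι] [DecidableEq ι] (b : Module.Basis ι A C)
    (h : ¬ t ^ 2 ∣ Algebra.discr A b) : NilOne k D := by
  obtain ⟨c, hc⟩ := exists_basis f hf t hker π hπ hcomp hkerπ b
  have hT := traceMatrix_pi f π hcomp b c hc
  have hfin : Module.Finite k D := Module.Finite.of_basis c
  have hker0 : ∀ x : D, IsNilpotent x → Algebra.traceMatrix k c *ᵥ c.equivFun x = 0 := by
    intro x hx
    rw [Algebra.traceMatrix_of_basis_mulVec]
    ext i
    have : IsNilpotent (x * c i) := (Commute.all _ _).isNilpotent_mul_right hx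
    exact (Algebra.isNilpotent_trace_of_isNilpotent (R := k) this).eq_zero
  intro x y hx hx0 hy
  rw [Algebra.discr_def] at h
  rcases det_ne_zero_or f t ht hker _ h with h1 | h1
  · exfalso
    rw [← hT] at h1
    refine h1 (Matrix.exists_mulVec_eq_zero_iff.mp ⟨c.equivFun x, ?_, hker0 x hx⟩)
    intro h0
    exact hx0 (c.equivFun.injective (h0.trans (map_zero _).symm))
  · rw [← hT] at h1
    obtain ⟨j, hj⟩ : ∃ j, c.equivFun x j ≠ 0 := by
      by_contra hcc
      push Not at hcc
      exact hx0 (c.equivFun.injective ((funext hcc).trans (map_zero _).symm))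
    set z : D := c.equivFun x j • y - c.equivFun y j • x with hz
    have hzn : IsNilpotent z := by
      refine (Commute.all _ _).isNilpotent_sub ?_ ?_
      · rw [Algebra.smul_def]; exact (Commute.all _ _).isNilpotent_mul_left hy
      · rw [Algebra.smul_def]; exact (Commute.all _ _).isNilpotent_mul_left hx
    have hzj : c.equivFun z j = 0 := by
      rw [hz, map_sub, map_smul, map_smul]
      simp only [Pi.sub_apply, Pi.smul_apply, smul_eq_mul]
      ring
    have hz0 : z = 0 := by
      by_contra hz0
      refine h1 (adjugate_eq_zero _ (c.equivFun z) (c.equivFun x) j (hker0 z hzn) (hker0 x hx) ?_ hzj hj)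
      intro h0
      exact hz0 (c.equivFun.injective (h0.trans (map_zero _).symm))
    refine ⟨(c.equivFun x j)⁻¹ * c.equivFun y j, ?_⟩
    rw [hz, sub_eq_zero] at hz0
    rw [mul_smul, ← hz0, smul_smul, inv_mul_cancel₀ hj, one_smul]

include hf hker hπ hcomp hkerπ in
/-- If the nilradical modulo `t` has dimension at most one, `t²` does not divide the discriminant. -/
theorem not_sq_dvd [CharZero k] [IsDomain C] [IsIntegrallyClosed C] (ht : algebraMap A C t ≠ 0)
    {ι : Type*} [Fintype ι] [DecidableEq ι] (b : Module.Basis ι A C)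
    (h : NilOne k D) : ¬ t ^ 2 ∣ Algebra.discr A b := by
  obtain ⟨c, hc⟩ := exists_basis f hf t hker π hπ hcomp hkerπ b
  have hT := traceMatrix_pi f π hcomp b c hc
  have hfin : Module.Finite k D := Module.Finite.of_basis c
  have hdvd : ∀ u : C, π u = 0 → algebraMap A C t ∣ u := by
    intro u hu
    have : u ∈ RingHom.ker π := hu
    rwa [hkerπ, Ideal.mem_span_singleton] at this
  have hkert : f t = 0 := by
    have : t ∈ RingHom.ker f := by rw [hker]; exact Ideal.mem_span_singleton_self t
    exact this
  have hker0 : ∀ x : D, Algebra.traceMatrix k c *ᵥ c.equivFun x = 0 → IsNilpotent x := by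
    intro x hx
    refine isNilpotent_of_trace (k := k) x fun y => ?_
    have h1 : ∀ i, Algebra.trace k D (x * c i) = 0 := fun i => by
      rw [Algebra.traceMatrix_of_basis_mulVec] at hx
      exact congrFun hx i
    rw [← c.sum_repr y, Finset.mul_sum, map_sum]
    refine Finset.sum_eq_zero fun i _ => ?_
    rw [mul_smul_comm, map_smul, h1, smul_zero]
  intro hd
  rw [Algebra.discr_def] at hd
  have hne : Nonempty ι := by
    by_contra hι
    rw [not_nonempty_iff] at hι
    have : Subsingleton C := by
      refine ⟨fun x y => b.repr.injective (Subsingleton.elim _ _)⟩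
    exact (not_subsingleton C) this
  have hadj : ((Algebra.traceMatrix A b).map f).adjugate ≠ 0 := by
    intro h0
    rw [← hT] at h0
    obtain ⟨x, y, j, hx, hy, hx0, hxj, hyj⟩ := exists_of_adjugate_eq_zero _ h0
    have hX := hker0 (c.equivFun.symm x) (by rw [LinearEquiv.apply_symm_apply]; exact hx)
    have hY := hker0 (c.equivFun.symm y) (by rw [LinearEquiv.apply_symm_apply]; exact hy)
    have hX0 : c.equivFun.symm x ≠ 0 := fun h0 => hx0 (by
      have := congrArg c.equivFun h0
      rwa [LinearEquiv.apply_symm_apply, map_zero] at this)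
    obtain ⟨a, ha⟩ := h _ _ hX hX0 hY
    rw [← map_smul] at ha
    have := congrFun (c.equivFun.symm.injective ha) j
    rw [Pi.smul_apply, hxj, smul_zero] at this
    exact hyj this
  obtain ⟨v, ⟨i₀, hi₀⟩, hv⟩ := exists_col f _ hd hadj
  set V : C := b.equivFun.symm v with hV
  have hVT : ∀ i, t ^ 2 ∣ Algebra.trace A C (V * b i) := by
    intro i
    have h1 := congrFun (Algebra.traceMatrix_of_basis_mulVec b V) i
    rw [hV, LinearEquiv.apply_symm_apply] at h1
    rw [← h1]; exact hv i
  have hVz : ∀ z, t ^ 2 ∣ Algebra.trace A C (V * z) := by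
    intro z
    rw [← b.sum_repr z, Finset.mul_sum, map_sum]
    refine Finset.dvd_sum fun i _ => ?_
    rw [mul_smul_comm, map_smul, smul_eq_mul]
    exact Dvd.dvd.mul_left (hVT i) _
  have hft : ∀ a : A, t ∣ a → f a = 0 := by
    rintro _ ⟨a, rfl⟩; rw [map_mul, hkert, zero_mul]
  have nil_of : ∀ u : C, (∀ z, t ∣ Algebra.trace A C (u * z)) → IsNilpotent (π u) := by
    intro u hu
    refine isNilpotent_of_trace (k := k) _ fun y => ?_
    obtain ⟨z, rfl⟩ := hπ y
    rw [← map_mul, trace_pi f π hcomp b c hc]
    exact hft _ (hu z)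
  have hX0 : π V ≠ 0 := by
    intro h0
    apply hi₀
    have h1 := repr_pi f π hcomp b c hc V i₀
    rw [h0, map_zero] at h1
    have h2 : b.repr V i₀ = v i₀ := by
      rw [hV, ← b.equivFun_apply, LinearEquiv.apply_symm_apply]
    rw [h2] at h1
    exact h1.symm
  have hXn : IsNilpotent (π V) := nil_of V fun z => (Dvd.intro_left t (by ring)).trans (hVz z)
  obtain ⟨u, hu⟩ := hdvd (V ^ 2) (by rw [map_pow]; exact h.sq _ hXn)
  have hinj : Function.Injective (algebraMap A C) := by
    have : Module.Free A C := Module.Free.of_basis b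
    exact FaithfulSMul.algebraMap_injective A C
  have htA : t ≠ 0 := fun h0 => ht (by rw [h0, map_zero])
  have hdomA : IsDomain A := Function.Injective.isDomain (algebraMap A C) hinj
  have hun : IsNilpotent (π u) := nil_of u fun z => by
    have h1 : t ^ 2 ∣ Algebra.trace A C (V * (V * z)) := hVz _
    have h2 : V * (V * z) = t • (u * z) := by
      rw [Algebra.smul_def, ← mul_assoc, ← sq, hu]; ring
    rw [h2, map_smul, smul_eq_mul, sq] at h1
    exact (mul_dvd_mul_iff_left htA).mp h1
  obtain ⟨a, ha⟩ := h _ _ hXn hX0 hun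
  obtain ⟨a', rfl⟩ := hf a
  obtain ⟨w, hw⟩ := hdvd (u - a' • V) (by
    rw [map_sub, ha, Algebra.smul_def a' V, map_mul, hcomp, ← Algebra.smul_def, sub_self])
  have hfin2 : V ^ 2 = algebraMap A C t * (algebraMap A C a' * V) + algebraMap A C t ^ 2 * w := by
    have : u = algebraMap A C a' * V + algebraMap A C t * w := by
      rw [← hw, Algebra.smul_def]; ring
    rw [hu, this]; ring
  obtain ⟨z, hz⟩ := dvd_of_sq ht hfin2
  apply hX0
  rw [hz, map_mul, hcomp, hkert, map_zero, zero_mul]

end Main

end K133.TrTrick
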