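import Groth.Agent.CurvSt.K133.DblRed
import Groth.Agent.CurvSt.K133.TrMain
import Mathlib.RingTheory.Smooth.Fiber
import Mathlib.RingTheory.Unramified.Basic
import Mathlib.RingTheory.Jacobson.Ring
import Mathlib.RingTheory.DedekindDomain.IntegralClosure
import Mathlib.FieldTheory.KummerExtension
import Mathlib.FieldTheory.IsAlgClosed.Basic

/-!
# The normalization of a simple cover in `E(√f)` is étale over `y² = f`: algebra
-/

set_option autoImplicit false

open Polynomial

namespace K133.W0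

/-- In a reduced artinian ring every element is a multiple of its square. -/
theorem exists_sq_mul {R : Type*} [CommRing R] [IsReduced R] [IsArtinianRing R] (w : R) : ∃ v : R, w = w ^ 2 * v := by
  obtain ⟨n, y, hy⟩ := IsArtinian.exists_pow_succ_smul_dvd w (1 : R)
  simp only [smul_eq_mul, mul_one] at hy
  refine ⟨y, ?_⟩
  have h1 : w ^ n * (1 - w * y) = 0 := by
    rw [mul_sub, mul_one, ← mul_assoc, ← pow_succ, hy, sub_self]
  have h2 : (w * (1 - w * y)) ^ (n + 1) = 0 := by
    have : ∀ z : R, (w * z) ^ (n + 1) = w ^ n * z * (w * z ^ n) := fun z => by ring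
    rw [this, h1, zero_mul]
  have h3 := eq_zero_of_pow_eq_zero h2
  linear_combination h3

section Conj

variable {R : Type*} [CommRing R] (φ : R)

theorem conj_aux : eval₂ (Algebra.ofId R (AdjoinRoot (X ^ 2 - C φ : R[X]))).toRingHom
    (-AdjoinRoot.root (X ^ 2 - C φ : R[X])) (X ^ 2 - C φ : R[X]) = 0 := by
  have h := adjoin_sq φ
  rw [eval₂_sub, eval₂_pow, eval₂_X, eval₂_C, neg_sq, h]
  exact sub_self _

/-- The involution `y ↦ -y`. -/
noncomputable def conj : AdjoinRoot (X ^ 2 - C φ : R[X]) →ₐ[R] AdjoinRoot (X ^ 2 - C φ : R[X]) :=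
  AdjoinRoot.liftAlgHom (X ^ 2 - C φ : R[X]) (Algebra.ofId R (AdjoinRoot (X ^ 2 - C φ : R[X])))
    (-AdjoinRoot.root (X ^ 2 - C φ : R[X])) (conj_aux φ)

theorem conj_root : conj φ (AdjoinRoot.root _) = -AdjoinRoot.root _ :=
  AdjoinRoot.lift_root (conj_aux φ)

theorem quad_adjoin {E : Type*} [Field E] (φ : E) (hφ : φ ≠ 0) :
    Quad (conj φ) (AdjoinRoot.root (X ^ 2 - C φ : E[X])) φ :=
  ⟨adjoin_sq φ, hφ, conj_root φ, fun z => adjoin_ex φ z, fun a b h => adjoin_uniq φ a b h⟩

end Conj

section Max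

variable {k W : Type*} [Field k] [IsAlgClosed k] [CommRing W] [Algebra k W] [Algebra.FiniteType k W]

theorem exists_sub_mem (Q : Ideal W) [hQ : Q.IsMaximal] (w : W) : ∃ c : k, w - algebraMap k W c ∈ Q := by
  let : Field (W ⧸ Q) := Ideal.Quotient.field Q
  have : Module.Finite k (W ⧸ Q) := finite_of_finite_type_of_isJacobsonRing k (W ⧸ Q)
  obtain ⟨c, hc⟩ := (IsAlgClosed.algebraMap_bijective_of_isIntegral (k := k) (K := W ⧸ Q)).2
    (Ideal.Quotient.mk Q w)
  refine ⟨c, ?_⟩
  rw [← Ideal.Quotient.eq, ← hc]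
  rfl

end Max

section Ded

variable {k : Type*} [Field k]

theorem dedekind [CharZero k] (f : k[X]) (hf : Squarefree f) (c : k) (hc : f.IsRoot c) :
    IsDedekindDomain (AdjoinRoot (X ^ 2 - C f : k[X][X])) := by
  classical
  set K := FractionRing k[X]
  set φ : K := algebraMap k[X] K f with hφ
  have hinjK : Function.Injective (algebraMap k[X] K) := IsFractionRing.injective _ _
  have hf0 : f ≠ 0 := hf.ne_zero
  have hφ0 : φ ≠ 0 := fun h => hf0 (hinjK (by rw [map_zero]; exact h))
  have hns : ∀ b : K, b ^ 2 ≠ φ := by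
    intro b hb
    have hint : IsIntegral k[X] b := by
      refine (IsIntegral.pow_iff (n := 2) (by norm_num)).mp ?_
      rw [hb]; exact isIntegral_algebraMap
    obtain ⟨g, rfl⟩ := IsIntegrallyClosed.isIntegral_iff.mp hint
    rw [← map_pow] at hb
    have hg : g ^ 2 = f := hinjK hb
    have hu : IsUnit g := hf g (by rw [← hg, pow_two])
    have : IsUnit f := by rw [← hg]; exact hu.pow 2
    have h1 := this.map (evalRingHom c)
    rw [coe_evalRingHom, hc] at h1
    exact not_isUnit_zero h1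
  have hirr : Irreducible (X ^ 2 - C φ : K[X]) := X_pow_sub_C_irreducible_of_prime Nat.prime_two hns
  have : Fact (Irreducible (X ^ 2 - C φ : K[X])) := ⟨hirr⟩
  set L := AdjoinRoot (X ^ 2 - C φ : K[X])
  set P := AdjoinRoot (X ^ 2 - C f : k[X][X])
  have : CharZero K := charZero_of_injective_algebraMap (R := k) (algebraMap k K).injective
  have : FiniteDimensional K L := (monic_X_pow_sub_C φ two_ne_zero).finite_adjoinRoot
  have hQ : Quad (conj φ) (AdjoinRoot.root _ : L) φ := quad_adjoin φ hφ0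
  let ι : P →+* L := AdjoinRoot.lift ((algebraMap K L).comp (algebraMap k[X] K)) (AdjoinRoot.root _) (by
    have h := adjoin_sq φ
    simp only [eval₂_sub, eval₂_pow, eval₂_X, eval₂_C]
    rw [sub_eq_zero]
    exact h)
  let : Algebra P L := ι.toAlgebra
  have hι0 : ∀ g : k[X], algebraMap P L (AdjoinRoot.of _ g) = algebraMap K L (algebraMap k[X] K g) := fun g =>
    AdjoinRoot.lift_of _
  have hι1 : algebraMap P L (AdjoinRoot.root _) = AdjoinRoot.root _ := AdjoinRoot.lift_root _
  have : IsScalarTower k[X] P L := IsScalarTower.of_algebraMap_eq fun g => by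
    rw [IsScalarTower.algebraMap_apply k[X] K L]
    exact (hι0 g).symm
  have : IsIntegralClosure P k[X] L := by
    refine ⟨?_, fun {z} => ⟨fun hz => ?_, ?_⟩⟩
    · rw [injective_iff_map_eq_zero]
      intro z hz
      obtain ⟨a, b, rfl⟩ := adjoin_ex f z
      rw [map_add, map_mul, hι0, hι0, hι1] at hz
      obtain ⟨h1, h2⟩ := hQ.uniq _ _ hz
      rw [hinjK (h1.trans (map_zero _).symm), hinjK (h2.trans (map_zero _).symm)]
      simp
    · obtain ⟨α, c, d, h1, h2⟩ := (hQ.int_iff (C := k[X]) (by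
        have : IsUnit (C (2 : k)) := (IsUnit.mk0 (2 : k) two_ne_zero).map _
        rwa [map_ofNat] at this) f rfl z).mp hz
      have h3 : f ∣ c := (hf.dvd_pow_iff_dvd two_ne_zero).mp ⟨d, h2⟩
      obtain ⟨e, rfl⟩ := h3
      refine ⟨AdjoinRoot.of _ α + AdjoinRoot.of _ e * AdjoinRoot.root _, ?_⟩
      rw [map_add, map_mul, hι0, hι0, hι1]
      have h4 := hQ.reg (z - (algebraMap K L (algebraMap k[X] K α) + algebraMap K L (algebraMap k[X] K e) *
        AdjoinRoot.root _)) (by
          rw [sub_mul, h1, add_mul, mul_assoc _ (AdjoinRoot.root _) (AdjoinRoot.root _), ← pow_two, hQ.sq,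
            IsScalarTower.algebraMap_apply k[X] K L, IsScalarTower.algebraMap_apply k[X] K L, map_mul, map_mul]
          ring)
      exact (sub_eq_zero.mp h4).symm
    · rintro ⟨p, rfl⟩
      obtain ⟨a, b, rfl⟩ := adjoin_ex f p
      rw [map_add, map_mul, hι0, hι0, hι1, ← IsScalarTower.algebraMap_apply, ← IsScalarTower.algebraMap_apply]
      refine isIntegral_algebraMap.add (isIntegral_algebraMap.mul ?_)
      refine (IsIntegral.pow_iff (n := 2) (by norm_num)).mp ?_
      have h5 := hQ.sq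
      rw [show (algebraMap K L φ) = algebraMap k[X] L f from
        (IsScalarTower.algebraMap_apply k[X] K L f).symm] at h5
      rw [h5]
      exact isIntegral_algebraMap
  have : IsDomain P := (IsIntegralClosure.algebraMap_injective P k[X] L).isDomain (algebraMap P L)
  exact IsIntegralClosure.isDedekindDomain k[X] K L P

end Ded

section Unram

variable {k : Type*} [Field k] [IsAlgClosed k] [CharZero k]

/-- Conditions on the fibres of `Spec C ⟶ 𝔸¹`: at most one double point, and only over the roots of `f`. -/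
structure Fib (f : k[X]) (C' : Type*) [CommRing C'] [Algebra k C'] [Algebra k[X] C'] : Prop where
  nil : ∀ a : k, TrTrick.NilOne k (C' ⧸ Ideal.span {algebraMap k[X] C' (X - C a)})
  red : ∀ a : k, f.eval a ≠ 0 → IsReduced (C' ⧸ Ideal.span {algebraMap k[X] C' (X - C a)})

variable {B : Type*} [CommRing B] [IsDomain B] [IsIntegrallyClosed B] [Algebra k B] [Algebra k[X] B]
  [IsScalarTower k k[X] B]

omit [IsAlgClosed k] [CharZero k] in
theorem Fib.dvd_red {f : k[X]} (h : Fib f B) (a : k) (ha : f.eval a ≠ 0) (c : B)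
    (hc : algebraMap k[X] B (X - C a) ∣ c ^ 2) : algebraMap k[X] B (X - C a) ∣ c := by
  have := h.red a ha
  rw [← Ideal.mem_span_singleton, ← Ideal.Quotient.eq_zero_iff_mem] at hc ⊢
  rw [map_pow] at hc
  exact eq_zero_of_pow_eq_zero hc

omit [IsAlgClosed k] [CharZero k] in
theorem nilpotent_iff (t c : B) : IsNilpotent (Ideal.Quotient.mk (Ideal.span {t}) c) ↔ c ∈ (Ideal.span {t}).radical := by
  constructor
  · rintro ⟨n, hn⟩
    rw [← map_pow, Ideal.Quotient.eq_zero_iff_mem] at hn
    exact ⟨n, hn⟩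
  · rintro ⟨n, hn⟩
    refine ⟨n, ?_⟩
    rwa [← map_pow, Ideal.Quotient.eq_zero_iff_mem]

omit [IsAlgClosed k] [CharZero k] in
theorem Fib.sq {f : k[X]} (h : Fib f B) (a : k) (c : B)
    (hc : c ∈ (Ideal.span {algebraMap k[X] B (X - C a)}).radical) : algebraMap k[X] B (X - C a) ∣ c ^ 2 := by
  rw [← nilpotent_iff] at hc
  have := (h.nil a).sq _ hc
  rwa [← map_pow, Ideal.Quotient.eq_zero_iff_mem, Ideal.mem_span_singleton] at this

omit [IsAlgClosed k] [CharZero k] in
theorem Fib.dvd {f : k[X]} (h : Fib f B) (a : k) (hne : algebraMap k[X] B (X - C a) ≠ 0) (c c₁ : B)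
    (hc : c ^ 2 = algebraMap k[X] B (X - C a) * c₁)
    (hc₁ : c₁ ∈ (Ideal.span {algebraMap k[X] B (X - C a)}).radical) : algebraMap k[X] B (X - C a) ∣ c := by
  set t := algebraMap k[X] B (X - C a) with ht
  by_contra h0
  have h1 : IsNilpotent (Ideal.Quotient.mk (Ideal.span {t}) c) := by
    rw [nilpotent_iff]
    exact ⟨2, by rw [hc]; exact Ideal.mul_mem_right _ _ (Ideal.mem_span_singleton_self t)⟩
  have h2 : Ideal.Quotient.mk (Ideal.span {t}) c ≠ 0 := by
    intro h3
    rw [Ideal.Quotient.eq_zero_iff_mem, Ideal.mem_span_singleton] at h3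
    exact h0 h3
  obtain ⟨e, he⟩ := h.nil a _ _ h1 h2 ((nilpotent_iff t c₁).mpr hc₁)
  have h3 : c₁ - algebraMap k B e * c ∈ Ideal.span {t} := by
    rw [← Ideal.Quotient.eq, map_mul, he, Algebra.smul_def]
    rfl
  obtain ⟨w, hw⟩ := Ideal.mem_span_singleton.mp h3
  refine h0 (TrTrick.dvd_of_sq (a := algebraMap k B e) (w := w) hne ?_)
  rw [hc]
  linear_combination t * hw

end Unram

end K133.W0
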