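import Groth.Agent.CurvSt.K133.EtAlg
import Groth.Agent.CurvSt.K133.Disc
import Groth.Agent.CurvSt.K681.P1Ov
import Groth.Agent.CurvSt.K133.Chart
import Mathlib.Algebra.Polynomial.Mirror
import Mathlib.FieldTheory.Separable

/-!
# Fibres of a simple cover of the projective line
-/

set_option autoImplicit false

universe u

open CategoryTheory CategoryTheory.Limits AlgebraicGeometry Polynomial K133.TrTrick K760.Hurw

namespace K133.W0

section Alg

variable {k : Type u} [Field k] {B : Type u} [CommRing B] [Algebra k B] [Algebra k[X] B] [IsScalarTower k k[X] B]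

theorem reduced_of_not_dvd {ι : Type*} [Fintype ι] [DecidableEq ι] (e : Module.Basis ι k[X] B) (a : k)
    (h : ¬ (X - C a) ∣ Algebra.discr k[X] e) : IsReduced (B ⧸ Ideal.span {algebraMap k[X] B (X - C a)}) := by
  obtain ⟨c, hc⟩ := exists_basis (Polynomial.evalRingHom a) (fun a => ⟨C a, by simp⟩) (X - C a)
    (K133.Hurw.ker_eval a) (Ideal.Quotient.mk (Ideal.span {algebraMap k[X] B (X - C a)}))
    Ideal.Quotient.mk_surjective (K133.Hurw.mk_comp a) (Ideal.mk_ker) e
  have hT := traceMatrix_pi (Polynomial.evalRingHom a)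
    (Ideal.Quotient.mk (Ideal.span {algebraMap k[X] B (X - C a)})) (K133.Hurw.mk_comp a) e c hc
  have hdet : (Algebra.traceMatrix k c).det ≠ 0 := by
    rw [hT, ← RingHom.mapMatrix_apply, ← RingHom.map_det, ← Algebra.discr_def]
    intro h0
    have h1 : Algebra.discr k[X] e ∈ RingHom.ker (Polynomial.evalRingHom a) := h0
    rw [K133.Hurw.ker_eval, Ideal.mem_span_singleton] at h1
    exact h h1
  have hfin : Module.Finite k (B ⧸ Ideal.span {algebraMap k[X] B (X - C a)}) := Module.Finite.of_basis c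
  refine ⟨fun x hx => ?_⟩
  by_contra hx0
  refine hdet (Matrix.exists_mulVec_eq_zero_iff.mp ⟨c.equivFun x, fun h0 => hx0 (c.equivFun.injective
    (h0.trans (map_zero _).symm)), ?_⟩)
  rw [Algebra.traceMatrix_of_basis_mulVec]
  ext i
  have : IsNilpotent (x * c i) := (Commute.all _ _).isNilpotent_mul_right hx
  exact (Algebra.isNilpotent_trace_of_isNilpotent (R := k) this).eq_zero

theorem nilOne_of_isReduced {D : Type*} [CommRing D] [Algebra k D] [IsReduced D] : NilOne k D :=
  fun x _ hx hx0 _ => (hx0 hx.eq_zero).elim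

theorem fib0 {r : ℕ} {b : Fin r → k} (h : IsSimp k b B) (f : k[X]) (hf : ∀ i, f.IsRoot (b i)) : Fib f B := by
  classical
  have := h.finite
  have := h.free
  have hsep : (∏ i, (X - C (b i))).Separable := separable_prod_X_sub_C_iff.mpr h.inj
  have hsq := hsep.squarefree
  refine ⟨fun a => ?_, fun a ha => ?_⟩
  · refine nilOne (Polynomial.evalRingHom a) (fun a => ⟨C a, by simp⟩) (X - C a)
      (K133.Hurw.ker_eval a) (Ideal.Quotient.mk (Ideal.span {algebraMap k[X] B (X - C a)}))
      Ideal.Quotient.mk_surjective (K133.Hurw.mk_comp a) (Ideal.mk_ker) (X_sub_C_ne_zero a)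
      (Module.Free.chooseBasis k[X] B) ?_
    intro hd
    have h1 := hsq (X - C a) (by rw [← sq]; exact hd.trans h.disc)
    exact not_isUnit_X_sub_C a h1
  · refine reduced_of_not_dvd (Module.Free.chooseBasis k[X] B) a ?_
    intro hd
    have h1 : X - C a ∣ ∏ i, (X - C (b i)) := hd.trans h.disc
    rw [(prime_X_sub_C a).dvd_finset_prod_iff] at h1
    obtain ⟨i, -, hi⟩ := h1
    rw [dvd_iff_isRoot, IsRoot.def, eval_sub, eval_X, eval_C, sub_eq_zero] at hi
    exact ha (by rw [hi]; exact hf i)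

end Alg

section Rev

variable {k : Type u} [Field k]

theorem reverse_eval (f : k[X]) (a : k) (ha : a ≠ 0) :
    f.reverse.eval a * (a⁻¹) ^ f.natDegree = f.eval a⁻¹ := by
  have : Invertible a⁻¹ := invertibleOfNonzero (inv_ne_zero ha)
  have h := eval₂_reverse_mul_pow (RingHom.id k) a⁻¹ f
  rw [invOf_eq_inv, inv_inv] at h
  exact h

theorem squarefree_reverse {f : k[X]} (hf : Squarefree f) : Squarefree f.reverse := by
  intro p hp
  have h1 : p * p ∣ f.mirror := hp.trans (Dvd.intro _ rfl)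
  obtain ⟨q, hq⟩ := h1
  have h2 : f = p.mirror * p.mirror * q.mirror := by
    rw [← mirror_mul_of_domain, ← mirror_mul_of_domain, ← hq, mirror_mirror]
  have h3 := hf p.mirror ⟨_, h2⟩
  have hp0 : p ≠ 0 := by
    rintro rfl
    rw [mirror_zero] at h3
    exact not_isUnit_zero h3
  rw [isUnit_iff_degree_eq_zero] at h3 ⊢
  rw [degree_eq_natDegree hp0, ← mirror_natDegree]
  rw [degree_eq_natDegree (fun h0 => hp0 (by rwa [mirror_eq_zero] at h0))] at h3
  exact h3

theorem exists_root_reverse [IsAlgClosed k] {f : k[X]} (hf : Squarefree f) (m : ℕ) (hm : f.natDegree = 2 * m) (c : k)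
    (hc : f.IsRoot c) : ∃ c', f.reverse.IsRoot c' := by
  obtain ⟨e, he⟩ := dvd_iff_isRoot.mpr hc
  have hf0 := hf.ne_zero
  have he0 : e ≠ 0 := by rintro rfl; rw [mul_zero] at he; exact hf0 he
  have hdeg : f.natDegree = 1 + e.natDegree := by
    rw [he, natDegree_mul (X_sub_C_ne_zero c) he0, natDegree_X_sub_C]
  have hde : e.degree ≠ 0 := by
    rw [degree_eq_natDegree he0]
    intro h0
    have : e.natDegree = 0 := by exact_mod_cast h0
    omega
  obtain ⟨c', hc'⟩ := IsAlgClosed.exists_root e hde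
  have hne : c ≠ c' := by
    rintro rfl
    obtain ⟨e', he'⟩ := dvd_iff_isRoot.mpr hc'
    exact not_isUnit_X_sub_C c (hf (X - C c) ⟨e', by rw [he, he']; ring⟩)
  have key : ∀ d : k, f.IsRoot d → d ≠ 0 → ∃ c', f.reverse.IsRoot c' := by
    intro d hd hd0
    refine ⟨d⁻¹, ?_⟩
    have h1 := reverse_eval f d⁻¹ (inv_ne_zero hd0)
    rw [inv_inv, hd.eq_zero] at h1
    exact (mul_eq_zero.mp h1).resolve_right (pow_ne_zero _ hd0)
  by_cases hc0 : c = 0
  · exact key c' (by rw [he, IsRoot.def, eval_mul, hc'.eq_zero, mul_zero]) (fun h0 => hne (hc0.trans h0.symm))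
  · exact key c hc hc0

end Rev

section Transfer

variable {k : Type u} [Field k]

theorem isPushout_of_surj {A B C D : Type u} [CommRing A] [CommRing B] [CommRing C] [CommRing D] (φ : A →+* B)
    (ε : A →+* C) (hε : Function.Surjective ε) (π : B →+* D) (hπ : Function.Surjective π)
    (hk : RingHom.ker π ≤ (RingHom.ker ε).map φ) (g : C →+* D) (hg : g.comp ε = π.comp φ) :
    IsPushout (CommRingCat.ofHom φ) (CommRingCat.ofHom ε) (CommRingCat.ofHom π) (CommRingCat.ofHom g) := by
  refine ⟨⟨by rw [← CommRingCat.ofHom_comp, ← CommRingCat.ofHom_comp, hg]⟩,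
    ⟨PushoutCocone.IsColimit.mk _ (fun s => CommRingCat.ofHom (RingHom.liftOfSurjective π hπ ⟨s.inl.hom, ?_⟩))
      ?_ ?_ ?_⟩⟩
  · have h2 : RingHom.ker π ≤ RingHom.ker s.inl.hom := by
      refine hk.trans ?_
      rw [Ideal.map_le_iff_le_comap]
      intro x hx
      have h1 := congrArg (fun f => f.hom x) s.condition
      simp only [CommRingCat.hom_comp, CommRingCat.hom_ofHom, RingHom.comp_apply] at h1
      rw [RingHom.mem_ker] at hx
      rw [hx, map_zero] at h1
      exact h1
    exact h2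
  · intro s
    ext x
    exact RingHom.liftOfSurjective_comp_apply π hπ _ x
  · intro s
    ext x
    obtain ⟨a, rfl⟩ := hε x
    have h1 : g (ε a) = π (φ a) := congrArg (fun f => f a) hg
    change RingHom.liftOfSurjective π hπ _ (g (ε a)) = _
    rw [h1, RingHom.liftOfSurjective_comp_apply]
    exact congrArg (fun f => f.hom a) s.condition
  · intro s m h1 _
    ext x
    obtain ⟨b, rfl⟩ := hπ x
    refine Eq.trans ?_ (RingHom.liftOfSurjective_comp_apply π hπ _ b).symm
    exact congrArg (fun f => f.hom b) h1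

theorem isPullback_fibre {X Y : Scheme.{u}} (F : X ⟶ Y) (v : Spec (CommRingCat.of k[X]) ⟶ Y)
    {B : Type u} [CommRing B] [Algebra k B] [Algebra k[X] B] [IsScalarTower k k[X] B]
    (j : Spec (CommRingCat.of B) ⟶ X) (hj : IsPullback j (Spec.map (CommRingCat.ofHom (algebraMap k[X] B))) F v)
    (a : k) : IsPullback (Spec.map (CommRingCat.ofHom (Ideal.Quotient.mk
      (Ideal.span {algebraMap k[X] B (Polynomial.X - C a)}))) ≫ j)
      (Spec.map (CommRingCat.ofHom (algebraMap k (B ⧸ Ideal.span {algebraMap k[X] B (Polynomial.X - C a)})))) F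
      (Spec.map (CommRingCat.ofHom (evalRingHom a)) ≫ v) := by
  have h1 := isPushout_of_surj (algebraMap k[X] B) (evalRingHom a) (fun a => ⟨C a, by simp⟩)
    (Ideal.Quotient.mk (Ideal.span {algebraMap k[X] B (Polynomial.X - C a)})) Ideal.Quotient.mk_surjective
    (by rw [Ideal.mk_ker, K133.Hurw.ker_eval, Ideal.map_span, Set.image_singleton])
    (algebraMap k _) (RingHom.ext fun p => (K133.Hurw.mk_comp a p).symm)
  have h2 := isPullback_SpecMap_of_isPushout _ _ _ _ h1
  exact h2.paste_horiz hj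

theorem NilOne.of_bijective {D D' : Type*} [CommRing D] [CommRing D'] [Algebra k D] [Algebra k D'] (u : D →ₐ[k] D')
    (hu : Function.Bijective u) (h : NilOne k D) : NilOne k D' := by
  intro x y hx hx0 hy
  obtain ⟨x, rfl⟩ := hu.2 x
  obtain ⟨y, rfl⟩ := hu.2 y
  have hn : ∀ z : D, IsNilpotent (u z) → IsNilpotent z := by
    rintro z ⟨n, hn⟩
    exact ⟨n, hu.1 (by rw [map_pow, hn, map_zero])⟩
  obtain ⟨c, hc⟩ := h x y (hn x hx) (fun h0 => hx0 (by rw [h0, map_zero])) (hn y hy)
  exact ⟨c, by rw [hc, map_smul]⟩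

theorem isReduced_of_bijective {D D' : Type*} [CommRing D] [CommRing D'] [Algebra k D] [Algebra k D'] (u : D →ₐ[k] D')
    (hu : Function.Bijective u) (h : IsReduced D) : IsReduced D' := by
  refine ⟨?_⟩
  rintro x ⟨n, hn⟩
  obtain ⟨x, rfl⟩ := hu.2 x
  have : x = 0 := h.eq_zero x ⟨n, hu.1 (by rw [map_pow, hn, map_zero])⟩
  rw [this, map_zero]

/-- Two algebras representing the same fibre are isomorphic. -/
theorem exists_equiv {X Y : Scheme.{u}} (F : X ⟶ Y) {D D' : Type u} [CommRing D] [CommRing D'] [Algebra k D]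
    [Algebra k D'] (p : Spec (CommRingCat.of k) ⟶ Y) (i : Spec (CommRingCat.of D) ⟶ X)
    (i' : Spec (CommRingCat.of D') ⟶ X)
    (h : IsPullback i (Spec.map (CommRingCat.ofHom (algebraMap k D))) F p)
    (h' : IsPullback i' (Spec.map (CommRingCat.ofHom (algebraMap k D'))) F p) :
    ∃ u : D →ₐ[k] D', Function.Bijective u := by
  let e := h'.isoIsPullback _ _ h
  obtain ⟨w, hw⟩ := Spec.map_surjective e.hom
  have h1 : CommRingCat.ofHom (algebraMap k D) ≫ w = CommRingCat.ofHom (algebraMap k D') := by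
    apply Spec.map_injective
    rw [Spec.map_comp, hw]
    exact h'.isoIsPullback_hom_snd _ _ h
  have h2 : Function.Bijective w.hom := by
    have : IsIso (Spec.map w) := by rw [hw]; infer_instance
    exact (isIso_SpecMap_iff).mp this
  exact ⟨⟨w.hom, fun c => congrArg (fun f => f.hom c) h1⟩, h2⟩

end Transfer

section Chart1

variable {k : Type u} [Field k]

instance isOpenImmersion_v0 : IsOpenImmersion (v0 k) := K681.P1Ov.isOpenImmersion_v k 0

instance isOpenImmersion_v1 : IsOpenImmersion (v1 k) := K681.P1Ov.isOpenImmersion_v k 1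

theorem eval_v (a : k) (ha : a ≠ 0) : Spec.map (CommRingCat.ofHom (evalRingHom a⁻¹)) ≫ v0 k =
    Spec.map (CommRingCat.ofHom (evalRingHom a)) ≫ v1 k := by
  have hu : IsUnit (evalRingHom a⁻¹ (X : k[X])) := by
    rw [coe_evalRingHom, eval_X]
    exact (inv_ne_zero ha).isUnit
  let χ : LaurentPolynomial k →+* k := IsLocalization.Away.lift (X : k[X]) hu
  have h0 : χ.comp (K681.P1Ov.l0 k) = evalRingHom a⁻¹ := IsLocalization.Away.lift_comp (X : k[X]) hu
  have hC : ∀ c : k, χ (LaurentPolynomial.C c) = c := fun c => by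
    have := congrArg (fun f => f (C c)) h0
    simp only [RingHom.comp_apply, coe_evalRingHom, eval_C] at this
    rwa [Polynomial.toLaurent_C] at this
  have hT : χ (LaurentPolynomial.T 1) = a⁻¹ := by
    have := congrArg (fun f => f X) h0
    simp only [RingHom.comp_apply, coe_evalRingHom, eval_X] at this
    rwa [Polynomial.toLaurent_X] at this
  have h1 : χ.comp (K681.P1Ov.l1 k) = evalRingHom a := by
    refine Polynomial.ringHom_ext (fun c => ?_) ?_
    · rw [RingHom.comp_apply, K681.P1Ov.l1_C, hC, coe_evalRingHom, eval_C]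
    · rw [RingHom.comp_apply, K681.P1Ov.l1_X, coe_evalRingHom, eval_X]
      have h2 : χ (LaurentPolynomial.T (-1)) * χ (LaurentPolynomial.T 1) = 1 := by
        rw [← map_mul, ← LaurentPolynomial.T_add, neg_add_cancel, LaurentPolynomial.T_zero, map_one]
      rw [hT] at h2
      field_simp at h2
      exact h2
  rw [← h0, ← h1, CommRingCat.ofHom_comp, CommRingCat.ofHom_comp, Spec.map_comp, Spec.map_comp, Category.assoc,
    Category.assoc]
  congr 1
  exact K681.P1Ov.ov k

theorem fib1 {Z : Scheme.{u}} (F : Z ⟶ CohB1.ProjSpace 1 k) {r : ℕ} {b : Fin r → k} (hF : IsSimpMor k F b)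
    (f : k[X]) (hf : ∀ i, f.IsRoot (b i))
    {B : Type u} [CommRing B] [Algebra k B] [Algebra k[X] B] [IsScalarTower k k[X] B]
    (j : Spec (CommRingCat.of B) ⟶ Z)
    (hj : IsPullback j (Spec.map (CommRingCat.ofHom (algebraMap k[X] B))) F (v1 k)) : Fib f.reverse B := by
  have hfin := hF.fin
  have hU : IsAffineOpen (F ⁻¹ᵁ (v0 k).opensRange) := (isAffineOpen_opensRange (v0 k)).preimage F
  obtain ⟨ψ, hψ⟩ := exists_isPullback_fromSpec F (v0 k) hU
  let : Algebra k[X] Γ(Z, F ⁻¹ᵁ (v0 k).opensRange) := ψ.hom.toAlgebra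
  let : Algebra k Γ(Z, F ⁻¹ᵁ (v0 k).opensRange) :=
    ((algebraMap k[X] Γ(Z, F ⁻¹ᵁ (v0 k).opensRange)).comp (algebraMap k k[X])).toAlgebra
  have : IsScalarTower k k[X] Γ(Z, F ⁻¹ᵁ (v0 k).opensRange) := IsScalarTower.of_algebraMap_eq fun _ => rfl
  have h0 : Fib f Γ(Z, F ⁻¹ᵁ (v0 k).opensRange) := fib0 (hF.simp0 _ hU.fromSpec hψ) f hf
  have key : ∀ a : k, a ≠ 0 → ∃ u : (Γ(Z, F ⁻¹ᵁ (v0 k).opensRange) ⧸
      Ideal.span {algebraMap k[X] Γ(Z, F ⁻¹ᵁ (v0 k).opensRange) (X - C a⁻¹)}) →ₐ[k]
        (B ⧸ Ideal.span {algebraMap k[X] B (X - C a)}), Function.Bijective u := by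
    intro a ha
    have e1 := isPullback_fibre F (v1 k) j hj a
    have e0 := isPullback_fibre F (v0 k) hU.fromSpec hψ a⁻¹
    rw [eval_v a ha] at e0
    exact exists_equiv F (Spec.map (CommRingCat.ofHom (evalRingHom a)) ≫ v1 k) _ _ e0 e1
  have hred0 : IsReduced (B ⧸ Ideal.span {algebraMap k[X] B (X - C 0)}) := by
    rw [map_zero, sub_zero]
    exact hF.inf B j hj
  refine ⟨fun a => ?_, fun a ha => ?_⟩
  · by_cases ha0 : a = 0
    · subst ha0
      exact nilOne_of_isReduced
    · obtain ⟨u, hu⟩ := key a ha0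
      exact NilOne.of_bijective u hu (h0.nil a⁻¹)
  · by_cases ha0 : a = 0
    · subst ha0
      exact hred0
    · obtain ⟨u, hu⟩ := key a ha0
      refine isReduced_of_bijective u hu (h0.red a⁻¹ ?_)
      rw [← reverse_eval f a ha0]
      exact mul_ne_zero ha (pow_ne_zero _ (inv_ne_zero ha0))

end Chart1

end K133.W0
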