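import Mathlib.AlgebraicGeometry.Normalization
import Mathlib.AlgebraicGeometry.FunctionField

/-!
# Normalization in an algebra over the function field: sections over affine opens
-/

set_option autoImplicit false

universe u

open CategoryTheory CategoryTheory.Limits AlgebraicGeometry

namespace K133.W0

section ToL

variable {L : Type u} [CommRing L] {Z : Scheme.{u}}

/-- The value of a section at a morphism from `Spec L`. -/
noncomputable def toL (a : Spec (CommRingCat.of L) ⟶ Z) (V : Z.Opens) (hV : ⊤ ≤ a ⁻¹ᵁ V) :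
    Γ(Z, V) ⟶ CommRingCat.of L :=
  a.appLE V ⊤ hV ≫ (Scheme.ΓSpecIso (CommRingCat.of L)).hom

theorem toL_congr {a a' : Spec (CommRingCat.of L) ⟶ Z} (h : a = a') (V : Z.Opens) (hV : ⊤ ≤ a ⁻¹ᵁ V)
    (hV' : ⊤ ≤ a' ⁻¹ᵁ V) : toL a V hV = toL a' V hV' := by
  subst h; rfl

theorem toL_comp {X : Scheme.{u}} (a : Spec (CommRingCat.of L) ⟶ Z) (g : Z ⟶ X) (V : Z.Opens) (U : X.Opens)
    (hVU : V ≤ g ⁻¹ᵁ U) (hV : ⊤ ≤ a ⁻¹ᵁ V) (hU : ⊤ ≤ (a ≫ g) ⁻¹ᵁ U) :
    g.appLE U V hVU ≫ toL a V hV = toL (a ≫ g) U hU := by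
  unfold toL
  rw [← Category.assoc, Scheme.Hom.appLE_comp_appLE]

theorem toL_map {L' : Type u} [CommRing L'] (φ : L →+* L') (a : Spec (CommRingCat.of L) ⟶ Z) (V : Z.Opens)
    (hV : ⊤ ≤ a ⁻¹ᵁ V) (hV' : ⊤ ≤ (Spec.map (CommRingCat.ofHom φ) ≫ a) ⁻¹ᵁ V) :
    toL (Spec.map (CommRingCat.ofHom φ) ≫ a) V hV' = toL a V hV ≫ CommRingCat.ofHom φ := by
  unfold toL
  rw [← Scheme.Hom.appLE_comp_appLE (Spec.map (CommRingCat.ofHom φ)) a V ⊤ ⊤ hV (by intro x _; trivial),
    Category.assoc, Category.assoc, ← Scheme.ΓSpecIso_naturality]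
  congr 2

theorem toL_fromSpec (a : Spec (CommRingCat.of L) ⟶ Z) (V : Z.Opens) (hV : ⊤ ≤ a ⁻¹ᵁ V) (hVa : IsAffineOpen V) :
    Spec.map (toL a V hV) ≫ hVa.fromSpec = a := by
  unfold toL
  rw [Spec.map_comp, Category.assoc, IsAffineOpen.SpecMap_appLE_fromSpec a hVa (isAffineOpen_top _) hV,
    IsAffineOpen.fromSpec_top, Scheme.isoSpec_Spec_inv, ← Category.assoc, ← Spec.map_comp, Iso.inv_hom_id,
    Spec.map_id, Category.id_comp]

theorem toL_eq_of_fromSpec (a : Spec (CommRingCat.of L) ⟶ Z) (V : Z.Opens) (hV : ⊤ ≤ a ⁻¹ᵁ V)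
    (hVa : IsAffineOpen V) (β : Γ(Z, V) ⟶ CommRingCat.of L) (hβ : Spec.map β ≫ hVa.fromSpec = a) :
    toL a V hV = β := by
  apply Spec.map_injective
  rw [← cancel_mono hVa.fromSpec, toL_fromSpec, hβ]

end ToL

section Norm

variable {X : Scheme.{u}} {L : Type u} [CommRing L] (h : Spec (CommRingCat.of L) ⟶ X) [QuasiCompact h]
  [QuasiSeparated h] {U : X.Opens}

theorem norm_le (hUh : ⊤ ≤ h ⁻¹ᵁ U) : ⊤ ≤ h.toNormalization ⁻¹ᵁ (h.fromNormalization ⁻¹ᵁ U) := by
  rw [← Scheme.Hom.comp_preimage, Scheme.Hom.toNormalization_fromNormalization]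
  exact hUh

theorem norm_comp (hUh : ⊤ ≤ h ⁻¹ᵁ U) : h.fromNormalization.app U ≫
    toL h.toNormalization (h.fromNormalization ⁻¹ᵁ U) (norm_le h hUh) = toL h U hUh := by
  rw [Scheme.Hom.app_eq_appLE, toL_comp h.toNormalization h.fromNormalization _ U le_rfl (norm_le h hUh)
    (by rw [Scheme.Hom.toNormalization_fromNormalization]; exact hUh)]
  exact toL_congr (Scheme.Hom.toNormalization_fromNormalization h) _ _ _

theorem norm_key (hU : IsAffineOpen U) (hUh : ⊤ ≤ h ⁻¹ᵁ U) :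
    Function.Injective (toL h.toNormalization (h.fromNormalization ⁻¹ᵁ U) (norm_le h hUh)).hom ∧
      ∀ z : L, (∃ w, (toL h.toNormalization (h.fromNormalization ⁻¹ᵁ U) (norm_le h hUh)).hom w = z) ↔
        (toL h U hUh).hom.IsIntegralElem z := by
  let e₀ : Γ(Spec (CommRingCat.of L), h ⁻¹ᵁ U) ⟶ Γ(Spec (CommRingCat.of L), ⊤) :=
    (Spec (CommRingCat.of L)).presheaf.map (homOfLE hUh).op
  have hiso : IsIso e₀ := by
    have : IsIso (homOfLE hUh : (⊤ : (Spec (CommRingCat.of L)).Opens) ⟶ h ⁻¹ᵁ U) :=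
      ⟨⟨homOfLE (le_top), Subsingleton.elim _ _, Subsingleton.elim _ _⟩⟩
    dsimp only [e₀]
    infer_instance
  let e : Γ(Spec (CommRingCat.of L), h ⁻¹ᵁ U) ⟶ CommRingCat.of L :=
    e₀ ≫ (Scheme.ΓSpecIso (CommRingCat.of L)).hom
  have he : Function.Bijective e.hom := ConcreteCategory.bijective_of_isIso e
  let : Algebra Γ(X, U) Γ(Spec (CommRingCat.of L), h ⁻¹ᵁ U) := (h.app U).hom.toAlgebra
  have h1 : toL h.toNormalization (h.fromNormalization ⁻¹ᵁ U) (norm_le h hUh) =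
      (h.normalizationObjIso hU).hom ≫
        CommRingCat.ofHom (integralClosure Γ(X, U) Γ(Spec (CommRingCat.of L), h ⁻¹ᵁ U)).val.toRingHom ≫ e := by
    rw [← Category.assoc, Scheme.Hom.normalizationObjIso_hom_val]
    unfold toL
    dsimp only [e, e₀]
    rw [← Category.assoc, Scheme.Hom.appLE_map]
  have h2 : toL h U hUh = h.app U ≫ e := by
    unfold toL
    dsimp only [e, e₀]
    rw [← Category.assoc]
    rfl
  have h3 : ∀ w, (toL h.toNormalization (h.fromNormalization ⁻¹ᵁ U) (norm_le h hUh)).hom w =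
      e.hom ((h.normalizationObjIso hU).hom.hom w).1 := fun w => by rw [h1]; rfl
  constructor
  · intro w w' hw
    rw [h3, h3] at hw
    have := Subtype.ext (he.1 hw)
    exact (ConcreteCategory.bijective_of_isIso (h.normalizationObjIso hU).hom).1 this
  · intro z
    constructor
    · rintro ⟨w, rfl⟩
      rw [h3, h2]
      have h4 := ((h.normalizationObjIso hU).hom.hom w).2
      exact RingHom.IsIntegralElem.map h4 e.hom
    · intro hz
      obtain ⟨b, rfl⟩ := he.2 z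
      have hb : (h.app U).hom.IsIntegralElem b := by
        rw [h2] at hz
        obtain ⟨p, hp, hpb⟩ := hz
        refine ⟨p, hp, he.1 ?_⟩
        rw [map_zero, Polynomial.hom_eval₂]
        exact hpb
      obtain ⟨w, hw⟩ := (ConcreteCategory.bijective_of_isIso (h.normalizationObjIso hU).hom).2 ⟨b, hb⟩
      refine ⟨w, ?_⟩
      rw [h3]
      have : ((h.normalizationObjIso hU).hom.hom w).1 = b := congrArg Subtype.val hw
      rw [this]

end Norm

end K133.W0
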