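import Mathlib.RingTheory.AdjoinRoot
import Mathlib.RingTheory.IntegralClosure.IntegrallyClosed
import Mathlib.RingTheory.DedekindDomain.IntegralClosure

/-!
# Quadratic extensions `L = E ⊕ E y` and the integral closure of a normal domain in them
-/

set_option autoImplicit false

open Polynomial

namespace K133.W0

/-- `L = E ⊕ E y`, `y² = φ ≠ 0`, with the involution `σ y = - y`. -/
structure Quad {E L : Type*} [Field E] [CommRing L] [Algebra E L] (σ : L →ₐ[E] L) (y : L) (φ : E) : Prop where
  sq : y ^ 2 = algebraMap E L φ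
  ne : φ ≠ 0
  neg : σ y = -y
  ex : ∀ z : L, ∃ a b : E, z = algebraMap E L a + algebraMap E L b * y
  uniq : ∀ a b : E, algebraMap E L a + algebraMap E L b * y = 0 → a = 0 ∧ b = 0

/-- `W` is the ring of the `α + c y⁻¹`, `α, c ∈ C`, `f ∣ c²`, where `y² = f`. -/
structure Dbl {C W : Type*} [CommRing C] [CommRing W] [Algebra C W] (f : C) (Y : W) : Prop where
  sq : Y ^ 2 = algebraMap C W f
  reg : ∀ w : W, w * Y = 0 → w = 0
  ex : ∀ w : W, ∃ α c d : C, w * Y = algebraMap C W α * Y + algebraMap C W c ∧ c ^ 2 = f * d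
  build : ∀ α c d : C, c ^ 2 = f * d → ∃ w : W, w * Y = algebraMap C W α * Y + algebraMap C W c
  uniq : ∀ α c : C, algebraMap C W α * Y + algebraMap C W c = 0 → α = 0 ∧ c = 0

section AdjoinRoot

variable {R : Type*} [CommRing R] (φ : R)

theorem adjoin_ex (z : AdjoinRoot (X ^ 2 - C φ : R[X])) :
    ∃ a b : R, z = AdjoinRoot.of _ a + AdjoinRoot.of _ b * AdjoinRoot.root _ := by
  rcases subsingleton_or_nontrivial R with hR | hR
  · have := Module.subsingleton R (AdjoinRoot (X ^ 2 - C φ : R[X]))
    exact ⟨0, 0, Subsingleton.elim _ _⟩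
  obtain ⟨p, rfl⟩ := AdjoinRoot.mk_surjective z
  have hm : (X ^ 2 - C φ : R[X]).Monic := monic_X_pow_sub_C φ two_ne_zero
  have h1 := modByMonic_add_div p (X ^ 2 - C φ)
  have h2 : (p %ₘ (X ^ 2 - C φ)).natDegree ≤ 1 := by
    have h3 := natDegree_modByMonic_lt p hm (by
      intro h
      have := congrArg natDegree h
      rw [natDegree_X_pow_sub_C, natDegree_one] at this
      exact two_ne_zero this)
    rw [natDegree_X_pow_sub_C] at h3
    omega
  obtain ⟨b, a, hab⟩ := exists_eq_X_add_C_of_natDegree_le_one h2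
  refine ⟨a, b, ?_⟩
  rw [← h1, map_add, map_mul, AdjoinRoot.mk_self, zero_mul, add_zero, hab, map_add, map_mul, AdjoinRoot.mk_C,
    AdjoinRoot.mk_C, AdjoinRoot.mk_X, add_comm]

theorem adjoin_uniq (a b : R) (h : AdjoinRoot.of (X ^ 2 - C φ) a + AdjoinRoot.of _ b * AdjoinRoot.root _ = 0) :
    a = 0 ∧ b = 0 := by
  nontriviality R
  have h1 : AdjoinRoot.mk (X ^ 2 - C φ) (C b * X + C a) = 0 := by
    rw [map_add, map_mul, AdjoinRoot.mk_C, AdjoinRoot.mk_C, AdjoinRoot.mk_X, add_comm]
    exact h
  rw [AdjoinRoot.mk_eq_zero] at h1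
  have hm : (X ^ 2 - C φ : R[X]).Monic := monic_X_pow_sub_C φ two_ne_zero
  have h2 : (C b * X + C a : R[X]) = 0 := by
    by_contra h0
    refine hm.not_dvd_of_degree_lt h0 ?_ h1
    rw [degree_X_pow_sub_C (by norm_num)]
    exact lt_of_le_of_lt degree_linear_le (by norm_num)
  have h3 := congrArg (fun p => coeff p 0) h2
  have h4 := congrArg (fun p => coeff p 1) h2
  simp at h3 h4
  exact ⟨h3, h4⟩

theorem adjoin_sq : (AdjoinRoot.root (X ^ 2 - C φ : R[X])) ^ 2 = AdjoinRoot.of _ φ := by
  have h := AdjoinRoot.eval₂_root (X ^ 2 - C φ : R[X])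
  rw [eval₂_sub, eval₂_pow, eval₂_X, eval₂_C, sub_eq_zero] at h
  exact h

end AdjoinRoot

section Int

variable {E L : Type*} [Field E] [CommRing L] [Algebra E L] {σ : L →ₐ[E] L} {y : L} {φ : E}

theorem Quad.injective (h : Quad σ y φ) : Function.Injective (algebraMap E L) := by
  rw [injective_iff_map_eq_zero]
  intro a ha
  exact (h.uniq a 0 (by rw [ha, map_zero, zero_mul, add_zero])).1

theorem Quad.reg (h : Quad σ y φ) (w : L) (hw : w * y = 0) : w = 0 := by
  have h1 : w * algebraMap E L φ = 0 := by rw [← h.sq, pow_two, ← mul_assoc, hw, zero_mul]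
  have h2 : IsUnit (algebraMap E L φ) := (IsUnit.mk0 φ h.ne).map _
  exact (h2.mul_left_eq_zero).mp h1

variable {C : Type*} [CommRing C] [IsDomain C] [IsIntegrallyClosed C] [Algebra C E] [IsFractionRing C E]
  [Algebra C L] [IsScalarTower C E L]

theorem Quad.int_iff (h : Quad σ y φ) (h2 : IsUnit (2 : C)) (f : C) (hf : algebraMap C E f = φ) (z : L) :
    IsIntegral C z ↔ ∃ α c d : C, z * y = algebraMap C L α * y + algebraMap C L c ∧ c ^ 2 = f * d := by
  have hinjL := h.injective
  have hinjE : Function.Injective (algebraMap C E) := IsFractionRing.injective C E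
  have htow : ∀ c : C, algebraMap C L c = algebraMap E L (algebraMap C E c) := fun c =>
    IsScalarTower.algebraMap_apply C E L c
  constructor
  · intro hz
    obtain ⟨a, b, rfl⟩ := h.ex z
    have hs := hz.map (σ.restrictScalars C)
    have hs' : IsIntegral C (algebraMap E L a - algebraMap E L b * y) := by
      have : (σ.restrictScalars C) (algebraMap E L a + algebraMap E L b * y) =
          algebraMap E L a - algebraMap E L b * y := by
        change σ _ = _
        rw [map_add, map_mul, σ.commutes, σ.commutes, h.neg]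
        ring
      rwa [this] at hs
    have ha : ∃ α : C, algebraMap C E α = a := by
      have h3 : IsIntegral C (algebraMap E L (2 * a)) := by
        have := hz.add hs'
        have h4 : algebraMap E L a + algebraMap E L b * y + (algebraMap E L a - algebraMap E L b * y) =
            algebraMap E L (2 * a) := by
          rw [map_mul, map_ofNat]; ring
        rwa [h4] at this
      have h4 : IsIntegral C (2 * a) := (isIntegral_algHom_iff (IsScalarTower.toAlgHom C E L) hinjL).mp h3
      obtain ⟨α, hα⟩ := IsIntegrallyClosed.isIntegral_iff.mp h4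
      obtain ⟨u, hu⟩ := h2.exists_left_inv
      refine ⟨u * α, ?_⟩
      rw [map_mul, hα, ← mul_assoc]
      have : algebraMap C E u * 2 = 1 := by
        have := congrArg (algebraMap C E) hu
        rwa [map_mul, map_ofNat, map_one] at this
      rw [this, one_mul]
    obtain ⟨α, rfl⟩ := ha
    have hb : ∃ d : C, algebraMap C E d = b ^ 2 * φ := by
      have h3 : IsIntegral C (algebraMap E L (b ^ 2 * φ)) := by
        have h4 : IsIntegral C (algebraMap E L b * y) := by
          have := hz.sub (isIntegral_algebraMap (R := C) (A := L) (x := α))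
          rwa [htow, add_sub_cancel_left] at this
        have := h4.pow 2
        have h5 : (algebraMap E L b * y) ^ 2 = algebraMap E L (b ^ 2 * φ) := by
          rw [mul_pow, h.sq, map_mul, map_pow]
        rwa [h5] at this
      have h4 : IsIntegral C (b ^ 2 * φ) := (isIntegral_algHom_iff (IsScalarTower.toAlgHom C E L) hinjL).mp h3
      exact IsIntegrallyClosed.isIntegral_iff.mp h4
    obtain ⟨d, hd⟩ := hb
    have hc : ∃ c : C, algebraMap C E c = b * φ := by
      refine IsIntegrallyClosed.isIntegral_iff.mp ?_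
      refine (IsIntegral.pow_iff (n := 2) (by norm_num)).mp ?_
      have : (b * φ) ^ 2 = algebraMap C E (d * f) := by
        rw [map_mul, hd, hf]; ring
      rw [this]
      exact isIntegral_algebraMap
    obtain ⟨c, hc⟩ := hc
    refine ⟨α, c, d, ?_, ?_⟩
    · rw [htow, htow, hc, add_mul, mul_assoc, ← pow_two, h.sq, map_mul]
    · apply hinjE
      rw [map_pow, hc, map_mul, hd, hf]; ring
  · rintro ⟨α, c, d, h1, h3⟩
    have hz : z - algebraMap C L α = algebraMap E L (algebraMap C E c / φ) * y := by
      have h4 : (z - algebraMap C L α - algebraMap E L (algebraMap C E c / φ) * y) * y = 0 := by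
        rw [sub_mul, sub_mul, h1, mul_assoc, ← pow_two, h.sq, ← map_mul, div_mul_cancel₀ _ h.ne, ← htow]
        ring
      exact sub_eq_zero.mp (h.reg _ h4)
    have h5 : IsIntegral C (z - algebraMap C L α) := by
      refine (IsIntegral.pow_iff (n := 2) (by norm_num)).mp ?_
      have : (z - algebraMap C L α) ^ 2 = algebraMap C L d := by
        rw [hz, mul_pow, h.sq, ← map_pow, ← map_mul, htow]
        congr 1
        rw [div_pow, ← map_pow, h3, map_mul, hf]
        have := h.ne
        field_simp
      rw [this]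
      exact isIntegral_algebraMap
    have := h5.add (isIntegral_algebraMap (R := C) (A := L) (x := α))
    rwa [sub_add_cancel] at this

theorem Quad.dbl (h : Quad σ y φ) (h2 : IsUnit (2 : C)) (f : C) (hf : algebraMap C E f = φ)
    {W : Type*} [CommRing W] [Algebra C W] [Algebra W L] [IsScalarTower C W L] [IsIntegralClosure W C L]
    (Y : W) (hY : algebraMap W L Y = y) : Dbl f Y := by
  have hinj : Function.Injective (algebraMap W L) := IsIntegralClosure.algebraMap_injective W C L
  have htow : ∀ c : C, algebraMap C L c = algebraMap E L (algebraMap C E c) := fun c =>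
    IsScalarTower.algebraMap_apply C E L c
  have htow' : ∀ c : C, algebraMap W L (algebraMap C W c) = algebraMap C L c := fun c =>
    (IsScalarTower.algebraMap_apply C W L c).symm
  refine ⟨?_, ?_, ?_, ?_, ?_⟩
  · apply hinj
    rw [map_pow, hY, h.sq, htow', htow, hf]
  · intro w hw
    apply hinj
    rw [map_zero]
    refine h.reg _ ?_
    rw [← hY, ← map_mul, hw, map_zero]
  · intro w
    obtain ⟨α, c, d, h1, h3⟩ := (h.int_iff h2 f hf (algebraMap W L w)).mp
      ((IsIntegralClosure.isIntegral_iff (A := W)).mpr ⟨w, rfl⟩)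
    refine ⟨α, c, d, hinj ?_, h3⟩
    rw [map_mul, hY, h1, map_add, map_mul, hY, htow', htow']
  · intro α c d h3
    obtain ⟨z, hz⟩ : ∃ z : L, z * y = algebraMap C L α * y + algebraMap C L c := by
      refine ⟨algebraMap C L α + algebraMap E L (algebraMap C E c / φ) * y, ?_⟩
      rw [add_mul, mul_assoc, ← pow_two, h.sq, ← map_mul, div_mul_cancel₀ _ h.ne, ← htow]
    obtain ⟨w, hw⟩ := (IsIntegralClosure.isIntegral_iff (A := W)).mp ((h.int_iff h2 f hf z).mpr ⟨α, c, d, hz, h3⟩)
    refine ⟨w, hinj ?_⟩
    rw [map_mul, hY, hw, hz, map_add, map_mul, hY, htow', htow']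
  · intro α c h0
    have h1 := congrArg (algebraMap W L) h0
    rw [map_add, map_mul, hY, htow', htow', map_zero, htow, htow, add_comm] at h1
    obtain ⟨h4, h5⟩ := h.uniq _ _ h1
    have hinjE : Function.Injective (algebraMap C E) := IsFractionRing.injective C E
    exact ⟨hinjE (by rw [h5, map_zero]), hinjE (by rw [h4, map_zero])⟩

end Int

end K133.W0
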