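import Groth.Agent.CurvSt.K133.Chart
import Groth.Agent.CurvSt.K760.Iface
import Groth.Agent.CurvSt.K492.Quot

/-!
# The normalization in a quadratic extension: the involution and its quotient
-/

set_option autoImplicit false

universe u

open CategoryTheory CategoryTheory.Limits AlgebraicGeometry K760.Hurw

namespace K133.W0

section

variable {X : Scheme.{u}} [IsIntegral X] {L : Type u} [CommRing L] [Algebra X.functionField L]
  {σ : L →ₐ[X.functionField] L} {y : L} {φ : X.functionField}

theorem Quad.invol {E L : Type*} [Field E] [CommRing L] [Algebra E L] {σ : L →ₐ[E] L} {y : L} {φ : E}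
    (h : Quad σ y φ) (z : L) : σ (σ z) = z := by
  obtain ⟨a, b, rfl⟩ := h.ex z
  simp only [map_add, map_mul, σ.commutes, h.neg, map_neg, neg_neg]

theorem Quad.fixed {E L : Type*} [Field E] [CharZero E] [CommRing L] [Algebra E L] {σ : L →ₐ[E] L} {y : L} {φ : E}
    (h : Quad σ y φ) (z : L) (hz : σ z = z) : ∃ a : E, z = algebraMap E L a := by
  obtain ⟨a, b, rfl⟩ := h.ex z
  simp only [map_add, map_mul, σ.commutes, h.neg] at hz
  have h1 : algebraMap E L 0 + algebraMap E L (2 * b) * y = 0 := by
    rw [map_zero, map_mul, map_ofNat]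
    linear_combination -hz
  have h2 := (h.uniq _ _ h1).2
  have hb : b = 0 := (mul_eq_zero.mp h2).resolve_left two_ne_zero
  exact ⟨a, by rw [hb, map_zero, zero_mul, add_zero]⟩

theorem map_hMap (σ : L →ₐ[X.functionField] L) :
    Spec.map (CommRingCat.ofHom σ.toRingHom) ≫ hMap X L = hMap X L := by
  unfold hMap
  rw [← Category.assoc, ← Spec.map_comp, ← CommRingCat.ofHom_comp]
  congr 3
  ext a
  exact σ.commutes a

variable [QuasiCompact (hMap X L)] [QuasiSeparated (hMap X L)]

/-- The involution of the normalization. -/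
noncomputable def invo (σ : L →ₐ[X.functionField] L) : (hMap X L).normalization ⟶ (hMap X L).normalization :=
  (hMap X L).normalizationDesc (Spec.map (CommRingCat.ofHom σ.toRingHom) ≫ (hMap X L).toNormalization)
    (hMap X L).fromNormalization (by
      rw [Category.assoc, Scheme.Hom.toNormalization_fromNormalization, map_hMap])

theorem to_invo (σ : L →ₐ[X.functionField] L) : (hMap X L).toNormalization ≫ invo σ =
    Spec.map (CommRingCat.ofHom σ.toRingHom) ≫ (hMap X L).toNormalization :=
  Scheme.Hom.toNormalization_normalizationDesc ..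

theorem invo_from (σ : L →ₐ[X.functionField] L) : invo σ ≫ (hMap X L).fromNormalization =
    (hMap X L).fromNormalization :=
  Scheme.Hom.normalizationDesc_comp ..

theorem Quad.invo_invo (hQ : Quad σ y φ) : invo σ ≫ invo σ = 𝟙 _ := by
  refine Scheme.Hom.normalization.hom_ext _ _ _ (hMap X L).fromNormalization ?_ ?_ ?_
  · rw [← Category.assoc, to_invo, Category.assoc, to_invo, ← Category.assoc, ← Spec.map_comp,
      ← CommRingCat.ofHom_comp, Category.comp_id]
    have : σ.toRingHom.comp σ.toRingHom = RingHom.id L := RingHom.ext fun z => hQ.invol z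
    rw [this, CommRingCat.ofHom_id, Spec.map_id, Category.id_comp]
  · rw [Category.assoc, invo_from, invo_from]
  · rw [Category.id_comp]

theorem Quad.isInvQuot (hQ : Quad σ y φ) (hX : Pi1.IsNormalScheme X) [CharZero X.functionField] :
    IsInvQuot (invo σ) (hMap X L).fromNormalization := by
  rw [← K492.Hurw.isQuot_iff (invo σ) hQ.invo_invo]
  have hinv := K492.Hurw.rho_inv (invo σ) hQ.invo_invo (invo_from σ)
  have : Finite K492.Hurw.G2.{u} := Nat.finite_of_card_ne_zero (by rw [K492.Hurw.card_G2]; norm_num)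
  refine Groth.Agent.Sga1.QuotBasic.isQuot_of_affine_cover hinv fun x => ?_
  obtain ⟨U, hU, hxU, -⟩ := exists_isAffineOpen_mem_and_subset (X := X) (x := x) (U := ⊤) trivial
  refine ⟨U, hxU, hU, ?_⟩
  have hne : Nonempty U := ⟨⟨x, hxU⟩⟩
  set h := hMap X L with hh
  set g := h.fromNormalization with hg
  have hUh : ⊤ ≤ h ⁻¹ᵁ U := hMap_le L U
  have hic : IsIntegrallyClosed Γ(X, U) :=
    Groth.Agent.Ega2.Normal.isIntegrallyClosed_of_isAffineOpen hX hU inferInstance
  have hfr : IsFractionRing Γ(X, U) X.functionField := functionField_isFractionRing_of_isAffineOpen X U hU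
  obtain ⟨hk1, hk2⟩ := norm_key h hU hUh
  have hcomp : ∀ a : Γ(X, U), (toL h.toNormalization (g ⁻¹ᵁ U) (norm_le h hUh)).hom ((g.app U).hom a) =
      algebraMap X.functionField L (algebraMap Γ(X, U) X.functionField a) := by
    intro a
    have h1 := congrArg (fun f => f.hom a) (norm_comp h hUh)
    refine h1.trans ?_
    change (toL (hMap X L) U (hMap_le L U)).hom a = _
    rw [toL_hMap L hU]
    rfl
  constructor
  · intro a b hab
    have h1 := congrArg (toL h.toNormalization (g ⁻¹ᵁ U) (norm_le h hUh)).hom hab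
    rw [hcomp, hcomp] at h1
    exact IsFractionRing.injective Γ(X, U) X.functionField (hQ.injective h1)
  · intro t ht
    have h1 := ht K492.Hurw.tau
    have h2 : (invo σ).appLE (g ⁻¹ᵁ U) (g ⁻¹ᵁ U) (by rw [← Scheme.Hom.comp_preimage, invo_from]) t = t := by
      have : Groth.Agent.Sga1.QuotBasic.act (K492.Hurw.rho (invo σ) hQ.invo_invo)
          (Groth.Agent.Sga1.QuotBasic.stable_preimage hinv U) K492.Hurw.tau =
          (invo σ).appLE (g ⁻¹ᵁ U) (g ⁻¹ᵁ U) (by rw [← Scheme.Hom.comp_preimage, invo_from]) := by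
        unfold Groth.Agent.Sga1.QuotBasic.act
        exact Groth.Agent.Sga1.QuotBasic.appLE_congr_hom (K492.Hurw.rho_tau _ _) _ _ _
      rw [← this]
      exact h1
    set β := toL h.toNormalization (g ⁻¹ᵁ U) (norm_le h hUh) with hβ
    have h3 : σ (β.hom t) = β.hom t := by
      have h4 : (invo σ).appLE (g ⁻¹ᵁ U) (g ⁻¹ᵁ U) (by rw [← Scheme.Hom.comp_preimage, invo_from]) ≫ β =
          β ≫ CommRingCat.ofHom σ.toRingHom := by
        have hle : ⊤ ≤ (Spec.map (CommRingCat.ofHom σ.toRingHom) ≫ h.toNormalization) ⁻¹ᵁ (g ⁻¹ᵁ U) := by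
          intro z _
          exact norm_le h hUh (x := Spec.map (CommRingCat.ofHom σ.toRingHom) z) trivial
        rw [hβ, toL_comp h.toNormalization (invo σ) (g ⁻¹ᵁ U) (g ⁻¹ᵁ U) _ (norm_le h hUh)
          (by rw [to_invo]; exact hle), ← toL_map σ.toRingHom h.toNormalization (g ⁻¹ᵁ U) (norm_le h hUh) hle]
        exact toL_congr (to_invo σ) _ _ _
      have h5 := congrArg (fun f => f.hom t) h4
      change β.hom _ = σ (β.hom t) at h5
      rw [← h5]
      exact congrArg β.hom h2
    obtain ⟨a, ha⟩ := hQ.fixed _ h3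
    have h6 : (toL h U hUh).hom.IsIntegralElem (β.hom t) := (hk2 _).mp ⟨t, rfl⟩
    have h7 : IsIntegral Γ(X, U) a := by
      rw [ha] at h6
      obtain ⟨p, hp, hp0⟩ := h6
      refine ⟨p, hp, hQ.injective ?_⟩
      rw [map_zero, Polynomial.hom_eval₂]
      have h8 : (algebraMap X.functionField L).comp (algebraMap Γ(X, U) X.functionField) =
          (toL h U hUh).hom := by
        ext b
        change _ = (toL (hMap X L) U (hMap_le L U)).hom b
        rw [toL_hMap L hU]
        rfl
      rw [h8]
      exact hp0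
    obtain ⟨b, hb⟩ := IsIntegrallyClosed.isIntegral_iff.mp h7
    refine ⟨b, hk1 ?_⟩
    rw [hcomp, hb, ← ha]

end

end K133.W0
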