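import Mathlib.RingTheory.Discriminant
import Mathlib.RingTheory.IntegralClosure.IntegrallyClosed
import Mathlib.LinearAlgebra.Matrix.Adjugate
import Mathlib.LinearAlgebra.Trace
import Mathlib.RingTheory.Artinian.Module

/-!
# Trace forms modulo a prime element: nilpotents and divisibility of the discriminant
-/

set_option autoImplicit false

open Matrix

namespace K133.TrTrick

section Adj

variable {n F : Type*} [Fintype n] [DecidableEq n] [Field F]

theorem exists_of_adjugate_eq_zero [Nonempty n] (M : Matrix n n F) (h : M.adjugate = 0) :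
    ∃ (x y : n → F) (j : n), M *ᵥ x = 0 ∧ M *ᵥ y = 0 ∧ x ≠ 0 ∧ x j = 0 ∧ y j ≠ 0 := by
  have hdet : M.det = 0 := by
    have h1 := M.mul_adjugate
    rw [h, Matrix.mul_zero] at h1
    obtain ⟨i⟩ := ‹Nonempty n›
    have := congrFun (congrFun h1 i) i
    simpa using this.symm
  obtain ⟨y, hy0, hy⟩ := Matrix.exists_mulVec_eq_zero_iff.mpr hdet
  obtain ⟨j, hj⟩ := Function.ne_iff.mp hy0
  have hsurj : ¬ Function.Surjective M.mulVecLin := by
    intro hs
    have hinj := LinearMap.injective_iff_surjective.mpr hs
    exact hy0 (hinj (by rw [Matrix.mulVecLin_apply, Matrix.mulVecLin_apply, hy, Matrix.mulVec_zero]))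
  obtain ⟨w, hw⟩ : ∃ w, ∀ x, M *ᵥ x ≠ w := by
    by_contra hc
    push Not at hc
    exact hsurj fun w => hc w
  have hd' : (M.updateCol j w).det = 0 := by
    have h1 := congrFun (Matrix.cramer_eq_adjugate_mulVec M w) j
    rw [Matrix.cramer_apply, h, Matrix.zero_mulVec] at h1
    simpa using h1
  obtain ⟨x, hx0, hx⟩ := Matrix.exists_mulVec_eq_zero_iff.mpr hd'
  have hup : ∀ z : n → F, M.updateCol j w *ᵥ z = M *ᵥ (Function.update z j 0) + z j • w := by
    intro z
    ext i
    simp only [Matrix.mulVec, dotProduct, Pi.add_apply, Pi.smul_apply, smul_eq_mul]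
    rw [← Finset.add_sum_erase _ _ (Finset.mem_univ j), ← Finset.add_sum_erase _ _ (Finset.mem_univ j)]
    have : ∑ k ∈ Finset.univ.erase j, M.updateCol j w i k * z k =
        ∑ k ∈ Finset.univ.erase j, M i k * Function.update z j 0 k := by
      refine Finset.sum_congr rfl fun k hk => ?_
      have hkj := Finset.ne_of_mem_erase hk
      rw [Matrix.updateCol_ne hkj, Function.update_of_ne hkj]
    rw [this]
    simp [Matrix.updateCol_self]
    ring
  rw [hup] at hx
  have hxj : x j = 0 := by
    by_contra hne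
    refine hw (-(x j)⁻¹ • Function.update x j 0) ?_
    rw [Matrix.mulVec_smul, eq_neg_of_add_eq_zero_left hx, smul_neg, neg_smul, neg_neg, smul_smul,
      inv_mul_cancel₀ hne, one_smul]
  have hxu : Function.update x j 0 = x := by
    rw [← hxj, Function.update_eq_self]
  rw [hxj, zero_smul, add_zero, hxu] at hx
  exact ⟨x, y, j, hx, hy, hx0, hxj, hj⟩

theorem adjugate_eq_zero (M : Matrix n n F) (x y : n → F) (j : n) (hx : M *ᵥ x = 0) (hy : M *ᵥ y = 0)
    (hx0 : x ≠ 0) (hxj : x j = 0) (hyj : y j ≠ 0) : M.adjugate = 0 := by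
  have key : ∀ i : n, ∃ z : n → F, z ≠ 0 ∧ z i = 0 ∧ M *ᵥ z = 0 := by
    intro i
    by_cases hxi : x i = 0
    · exact ⟨x, hx0, hxi, hx⟩
    · refine ⟨y i • x - x i • y, ?_, ?_, ?_⟩
      · intro h0
        have := congrFun h0 j
        simp only [Pi.sub_apply, Pi.smul_apply, smul_eq_mul, hxj, mul_zero, zero_sub, Pi.zero_apply,
          neg_eq_zero, mul_eq_zero] at this
        exact this.elim hxi hyj
      · simp only [Pi.sub_apply, Pi.smul_apply, smul_eq_mul]; ring
      · rw [Matrix.mulVec_sub, Matrix.mulVec_smul, Matrix.mulVec_smul, hx, hy, smul_zero, smul_zero, sub_zero]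
  have h2 : ∀ (w : n → F) (i : n), (M.updateCol i w).det = 0 := by
    intro w i
    obtain ⟨z, hz0, hzi, hz⟩ := key i
    refine Matrix.exists_mulVec_eq_zero_iff.mp ⟨z, hz0, ?_⟩
    rw [← hz]
    ext l
    simp only [Matrix.mulVec, dotProduct]
    refine Finset.sum_congr rfl fun k _ => ?_
    by_cases hk : k = i
    · subst hk; simp [hzi]
    · rw [Matrix.updateCol_ne hk]
  ext i l
  have h1 := congrFun (Matrix.cramer_eq_adjugate_mulVec M (Pi.single l 1)) i
  rw [Matrix.cramer_apply, h2] at h1
  simpa using h1.symm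

end Adj

section Lat

variable {n A k : Type*} [Fintype n] [DecidableEq n] [CommRing A] [Field k] (f : A →+* k) (t : A)

theorem exists_col (T : Matrix n n A) {d : A} (hd : d ∣ T.det)
    (h : (T.map f).adjugate ≠ 0) :
    ∃ v : n → A, (∃ i, f (v i) ≠ 0) ∧ ∀ i, d ∣ (T *ᵥ v) i := by
  obtain ⟨i, j, hij⟩ : ∃ i j, (T.map f).adjugate i j ≠ 0 := by
    by_contra hc
    push Not at hc
    exact h (by ext i j; exact hc i j)
  refine ⟨fun l => T.adjugate l j, ⟨i, ?_⟩, fun l => ?_⟩
  · have : (T.map f).adjugate = (T.adjugate).map f := by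
      have := RingHom.map_adjugate f T
      simpa using this.symm
    rw [this] at hij
    exact hij
  · have h1 := congrFun (congrFun T.mul_adjugate l) j
    rw [Matrix.mul_apply] at h1
    have h2 : (T *ᵥ fun l => T.adjugate l j) l = (T.det • (1 : Matrix n n A)) l j := h1
    rw [h2]
    exact Dvd.dvd.mul_right hd _

theorem det_ne_zero_or [IsDomain A] (ht : t ≠ 0) (hker : RingHom.ker f = Ideal.span {t}) (T : Matrix n n A)
    (h : ¬ t ^ 2 ∣ T.det) : (T.map f).det ≠ 0 ∨ (T.map f).adjugate ≠ 0 := by
  by_contra hc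
  push Not at hc
  obtain ⟨h1, h2⟩ := hc
  have hmem : ∀ a : A, f a = 0 → t ∣ a := fun a ha => by
    have : a ∈ RingHom.ker f := ha
    rw [hker, Ideal.mem_span_singleton] at this
    exact this
  have hdet : f T.det = 0 := by
    rw [RingHom.map_det]; exact h1
  obtain ⟨d, hd⟩ := hmem _ hdet
  have hadj : (T.map f).adjugate = (T.adjugate).map f := by
    have := RingHom.map_adjugate f T
    simpa using this.symm
  have hN : ∀ i j, ∃ c, T.adjugate i j = t * c := by
    intro i j
    refine hmem _ ?_
    have := congrFun (congrFun (hadj.symm.trans h2) i) j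
    exact this
  choose N hN using hN
  have hTN : T * (Matrix.of N) = d • (1 : Matrix n n A) := by
    have h3 : T * T.adjugate = T.det • (1 : Matrix n n A) := T.mul_adjugate
    have h4 : T.adjugate = t • Matrix.of N := by
      ext i j; rw [hN]; rfl
    rw [h4, Matrix.mul_smul, hd, mul_smul] at h3
    ext i j
    have := congrFun (congrFun h3 i) j
    simp only [Matrix.smul_apply, smul_eq_mul] at this
    exact mul_left_cancel₀ ht this
  have hfd : f d ≠ 0 := fun h0 => by
    obtain ⟨e, he⟩ := hmem _ h0
    exact h ⟨e, by rw [hd, he]; ring⟩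
  have h5 := congrArg (fun M : Matrix n n A => (M.map f).det) hTN
  simp only [Matrix.map_mul, Matrix.det_mul] at h5
  have h6 : ((d • (1 : Matrix n n A)).map f).det = f d ^ Fintype.card n := by
    have : (d • (1 : Matrix n n A)).map f = f d • (1 : Matrix n n k) := by
      ext i j
      by_cases hij : i = j
      · subst hij; simp
      · simp [hij]
    rw [this, Matrix.det_smul, Matrix.det_one, mul_one]
  rw [h6, h1, zero_mul] at h5
  exact pow_ne_zero _ hfd h5.symm

end Lat

section Alg

variable {A k C D : Type*} [CommRing A] [Field k] [CommRing C] [CommRing D] [Algebra A C] [Algebra k D]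
  (f : A →+* k) (hf : Function.Surjective f) (t : A) (hker : RingHom.ker f = Ideal.span {t})
  (π : C →+* D) (hπ : Function.Surjective π) (hcomp : ∀ a : A, π (algebraMap A C a) = algebraMap k D (f a))
  (hkerπ : RingHom.ker π = Ideal.span {algebraMap A C t})

include hf hker hπ hcomp hkerπ in
theorem exists_basis {ι : Type*} [Fintype ι] (b : Module.Basis ι A C) :
    ∃ c : Module.Basis ι k D, ∀ i, c i = π (b i) := by
  have hli : LinearIndependent k fun i => π (b i) := by
    rw [Fintype.linearIndependent_iff]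
    intro x hx i
    choose a ha using hf
    have h1 : (∑ i, a (x i) • b i) ∈ RingHom.ker π := by
      rw [RingHom.mem_ker, map_sum, ← hx]
      refine Finset.sum_congr rfl fun i _ => ?_
      rw [Algebra.smul_def, map_mul, hcomp, ha, Algebra.smul_def]
    rw [hkerπ, Ideal.mem_span_singleton] at h1
    obtain ⟨e, he⟩ := h1
    have h2 := congrArg (fun z => b.repr z i) he
    simp only [← Algebra.smul_def, map_smul, Finsupp.smul_apply, smul_eq_mul] at h2
    rw [b.repr_sum_self] at h2
    have h3 : a (x i) ∈ RingHom.ker f := by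
      rw [hker, Ideal.mem_span_singleton, h2]
      exact Dvd.intro _ rfl
    rw [RingHom.mem_ker, ha] at h3
    exact h3
  have hsp : ⊤ ≤ Submodule.span k (Set.range fun i => π (b i)) := by
    rintro y -
    obtain ⟨z, rfl⟩ := hπ y
    rw [← b.sum_repr z, map_sum]
    refine Submodule.sum_mem _ fun i _ => ?_
    rw [Algebra.smul_def, map_mul, hcomp, ← Algebra.smul_def]
    exact Submodule.smul_mem _ _ (Submodule.subset_span ⟨i, rfl⟩)
  exact ⟨Module.Basis.mk hli hsp, fun i => by rw [Module.Basis.mk_apply]⟩

include hcomp in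
theorem repr_pi {ι : Type*} [Fintype ι] (b : Module.Basis ι A C) (c : Module.Basis ι k D)
    (hc : ∀ i, c i = π (b i)) (z : C) (i : ι) : c.repr (π z) i = f (b.repr z i) := by
  have : π z = ∑ i, f (b.repr z i) • c i := by
    conv_lhs => rw [← b.sum_repr z]
    rw [map_sum]
    refine Finset.sum_congr rfl fun i _ => ?_
    rw [Algebra.smul_def, map_mul, hcomp, hc, Algebra.smul_def]
  rw [this, c.repr_sum_self]

include hcomp in
theorem trace_pi {ι : Type*} [Fintype ι] (b : Module.Basis ι A C) (c : Module.Basis ι k D)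
    (hc : ∀ i, c i = π (b i)) (z : C) : Algebra.trace k D (π z) = f (Algebra.trace A C z) := by
  classical
  rw [Algebra.trace_eq_matrix_trace c, Algebra.trace_eq_matrix_trace b, Matrix.trace, Matrix.trace, map_sum]
  refine Finset.sum_congr rfl fun i _ => ?_
  rw [Matrix.diag_apply, Matrix.diag_apply, Algebra.leftMulMatrix_eq_repr_mul, Algebra.leftMulMatrix_eq_repr_mul,
    hc, ← map_mul, repr_pi f π hcomp b c hc]

include hcomp in
theorem traceMatrix_pi {ι : Type*} [Fintype ι] [DecidableEq ι] (b : Module.Basis ι A C) (c : Module.Basis ι k D)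
    (hc : ∀ i, c i = π (b i)) : Algebra.traceMatrix k c = (Algebra.traceMatrix A b).map f := by
  ext i j
  rw [Algebra.traceMatrix_apply, Algebra.traceForm_apply, Matrix.map_apply, Algebra.traceMatrix_apply,
    Algebra.traceForm_apply, hc, hc, ← map_mul, trace_pi f π hcomp b c hc]

end Alg

/-- In characteristic zero, an element in the kernel of the trace form is nilpotent. -/
theorem isNilpotent_of_trace {k D : Type*} [Field k] [CharZero k] [CommRing D] [Algebra k D] [Module.Finite k D]
    (a : D) (h : ∀ y, Algebra.trace k D (a * y) = 0) : IsNilpotent a := by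
  have : IsArtinianRing D := IsArtinianRing.of_finite k D
  obtain ⟨n, y, hy⟩ := IsArtinian.exists_pow_succ_smul_dvd a (1 : D)
  simp only [smul_eq_mul, mul_one] at hy
  -- `a^(n+1) * y = a^n`
  have h1 : ∀ m, a ^ (n + m) * y ^ m = a ^ n := by
    intro m
    induction m with
    | zero => simp
    | succ m ih =>
      calc a ^ (n + (m + 1)) * y ^ (m + 1) = (a ^ (n + 1) * y) * (a ^ m * y ^ m) := by ring
        _ = a ^ n * (a ^ m * y ^ m) := by rw [hy]
        _ = a ^ (n + m) * y ^ m := by ring
        _ = a ^ n := ih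
  set e := a ^ (n + 1) * y ^ (n + 1) with he
  have hean : a ^ n * e = a ^ n := by
    have := h1 (n + 1)
    calc a ^ n * e = a ^ (n + (n + 1)) * y ^ (n + 1) := by rw [he]; ring
      _ = a ^ n := this
  have hee : e * e = e := by
    calc e * e = (a * y ^ (n + 1)) * (a ^ n * e) := by rw [he]; ring
      _ = (a * y ^ (n + 1)) * a ^ n := by rw [hean]
      _ = e := by rw [he]; ring
  have htr : LinearMap.trace k D (LinearMap.mul k D e) = 0 := by
    have := h (a ^ n * y ^ (n + 1))
    have h2 : a * (a ^ n * y ^ (n + 1)) = e := by rw [he]; ring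
    rw [h2, Algebra.trace_apply] at this
    exact this
  have hid : IsIdempotentElem (LinearMap.mul k D e) := by
    ext x
    simp [← mul_assoc, hee]
  have h0 := LinearMap.IsIdempotentElem.eq_zero_of_trace_eq_zero hid htr
  have he0 : e = 0 := by
    have := LinearMap.congr_fun h0 1
    simpa using this
  exact ⟨n, by rw [← hean, he0, mul_zero]⟩

theorem dvd_of_sq_aux {C K : Type*} [CommRing C] [IsDomain C] [IsIntegrallyClosed C] [Field K] [Algebra C K]
    [IsFractionRing C K] {t b a w : C} (ht : t ≠ 0)
    (h : b ^ 2 = t * (a * b) + t ^ 2 * w) : t ∣ b := by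
  have htK : algebraMap C K t ≠ 0 := fun h0 => ht (by
    have := (map_eq_zero_iff (algebraMap C K) (IsFractionRing.injective C K)).mp h0
    exact this)
  have hint : IsIntegral C (algebraMap C K b / algebraMap C K t) := by
    refine ⟨Polynomial.X ^ 2 - (Polynomial.C a * Polynomial.X + Polynomial.C w), ?_, ?_⟩
    · exact Polynomial.monic_X_pow_sub Polynomial.degree_linear_lt
    · simp only [Polynomial.eval₂_sub, Polynomial.eval₂_pow, Polynomial.eval₂_X, Polynomial.eval₂_add,
        Polynomial.eval₂_mul, Polynomial.eval₂_C]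
      have h1 := congrArg (algebraMap C K) h
      simp only [map_pow, map_add, map_mul] at h1
      rw [div_pow, h1]
      field_simp
      ring
  obtain ⟨c, hc⟩ := (IsIntegrallyClosed.isIntegral_iff (K := K)).mp hint
  refine ⟨c, IsFractionRing.injective C K ?_⟩
  rw [map_mul, hc, mul_div_cancel₀ _ htK]

theorem dvd_of_sq {C : Type*} [CommRing C] [IsDomain C] [IsIntegrallyClosed C] {t b a w : C} (ht : t ≠ 0)
    (h : b ^ 2 = t * (a * b) + t ^ 2 * w) : t ∣ b :=
  dvd_of_sq_aux (K := FractionRing C) ht h

end K133.TrTrick
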