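import Groth.Agent.CurvSt.K133.QuotInv
import Groth.Agent.CurvSt.K133.Fibres
import Groth.Agent.Pi1C.LefReduce
import Groth.Agent.Fga.DimLt
import Groth.Agent.Models.H59.P1Fibre
import Groth.Agent.Lefpen.H717.ProjIrr
import Groth.Agent.CurvesC.RegNormal
import Groth.Agent.VarietyA.RegSmoothSch

/-!
# (W0): a simple cover of the projective line becomes étale, after normalization, over the double cover `y² = f`
-/

set_option autoImplicit false

universe u

open CategoryTheory CategoryTheory.Limits AlgebraicGeometry K760.Hurw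

namespace K133.W0

theorem isNormal_of_smooth {k : Type u} [Field k] {X : Scheme.{u}} (f : X ⟶ Spec (CommRingCat.of k)) [Smooth f] :
    Pi1.IsNormalScheme X := by
  intro x
  have h1 : IsRegularLocalRing (X.presheaf.stalk x) :=
    Groth.Agent.VarietyA.RegSmoothSch.isRegularLocalRing_stalk_of_mem_smoothLocus f x
      (by rw [f.smoothLocus_eq_top]; trivial)
  exact ⟨Groth.Agent.CurvesC.RegNormal.isDomain _, Groth.Agent.CurvesC.RegNormal.isIntegrallyClosed _⟩

open Groth.Agent in
/-- A finite morphism of irreducible schemes of dimension one is surjective. -/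
theorem surjective_of_dim {X Y : Scheme.{u}} [IrreducibleSpace X] [IrreducibleSpace Y] (f : X ⟶ Y) [IsFinite f]
    (hX : topologicalKrullDim X = 1) (hY : topologicalKrullDim Y = 1) : Surjective f := by
  have h1 := Pi1C.LefReduce.dim_closure_eq f (genericPoint X)
  have h2 : closure ({genericPoint X} : Set X) = Set.univ := genericPoint_closure _
  have h3 : topologicalKrullDim (closure ({genericPoint X} : Set X)) = 1 := by
    rw [h2, ← hX]
    exact IsHomeomorph.topologicalKrullDim_eq _ (Homeomorph.Set.univ X).isHomeomorph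
  have h4 : closure ({f (genericPoint X)} : Set Y) = Set.univ := by
    by_contra hne
    have h := Fga.DimLt.exists_ltSeries_succ isClosed_closure hne (n := 1) (by rw [← h1, h3]; exact le_rfl)
    rw [hY] at h
    have h' : ((2 : ℕ) : WithBot ℕ∞) ≤ ((1 : ℕ) : WithBot ℕ∞) := h
    exact absurd (by exact_mod_cast h') (by norm_num : ¬ (2 : ℕ) ≤ 1)
  refine ⟨fun y => ?_⟩
  have h5 : closure ({f (genericPoint X)} : Set Y) ⊆ Set.range f :=
    (f.isClosedMap.isClosed_range).closure_subset_iff.2 (by rintro _ rfl; exact ⟨_, rfl⟩)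
  exact h5 (h4 ▸ trivial)

section Chart

variable {k : Type u} [Field k] {X Y : Scheme.{u}} (F : X ⟶ Y)
  (v : Spec (CommRingCat.of (Polynomial k)) ⟶ Y) {B : Type u} [CommRing B] [Algebra (Polynomial k) B]
  (j : Spec (CommRingCat.of B) ⟶ X)
  (hj : IsPullback j (Spec.map (CommRingCat.ofHom (algebraMap (Polynomial k) B))) F v)

include hj in
theorem finite_of_chart [IsFinite F] : Module.Finite (Polynomial k) B := by
  have : IsFinite (Spec.map (CommRingCat.ofHom (algebraMap (Polynomial k) B))) :=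
    MorphismProperty.of_isPullback hj inferInstance
  exact RingHom.finite_algebraMap.mp ((IsFinite.SpecMap_iff _).mp this)

include hj in
theorem injective_of_chart [Surjective F] : Function.Injective (algebraMap (Polynomial k) B) := by
  have hs : Surjective (Spec.map (CommRingCat.ofHom (algebraMap (Polynomial k) B))) :=
    MorphismProperty.of_isPullback hj inferInstance
  obtain ⟨z, hz⟩ := hs.surj (⊥ : PrimeSpectrum (Polynomial k))
  rw [injective_iff_map_eq_zero]
  intro p hp
  have h1 : p ∈ (Spec.map (CommRingCat.ofHom (algebraMap (Polynomial k) B)) z).asIdeal := by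
    change algebraMap (Polynomial k) B p ∈ z.asIdeal
    rw [hp]
    exact z.asIdeal.zero_mem
  rw [hz] at h1
  exact h1

end Chart

/-- A property local on the target can be checked on charts of the target. -/
theorem of_charts (P : MorphismProperty Scheme.{u}) [IsZariskiLocalAtTarget P] [P.IsStableUnderBaseChange]
    {W Z : Scheme.{u}} (p : W ⟶ Z) (h : ∀ z : Z, ∃ (V W' : Scheme.{u}) (j : V ⟶ Z) (_ : IsOpenImmersion j)
      (jW : W' ⟶ W) (τ : W' ⟶ V), z ∈ Set.range j ∧ IsPullback jW τ p j ∧ P τ) : P p := by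
  refine IsZariskiLocalAtTarget.of_forall_exists_morphismRestrict fun z => ?_
  obtain ⟨V, W', j, hj, jW, τ, hz, hsq, hτ⟩ := h z
  refine ⟨j.opensRange, hz, ?_⟩
  have h1 := (isPullback_morphismRestrict p j.opensRange).flip
  have h2 : j.isoOpensRange.inv ≫ j = j.opensRange.ι := by
    rw [Iso.inv_comp_eq, Scheme.Hom.isoOpensRange_hom_ι]
  have hw : (p ⁻¹ᵁ j.opensRange).ι ≫ p = ((p ∣_ j.opensRange) ≫ j.isoOpensRange.inv) ≫ j := by
    rw [Category.assoc, h2]; exact h1.w
  have h3 : IsPullback (hsq.lift _ _ hw) (p ∣_ j.opensRange) τ j.isoOpensRange.inv :=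
    IsPullback.of_right (by rw [hsq.lift_fst, h2]; exact h1) (hsq.lift_snd _ _ hw) hsq
  exact P.of_isPullback h3 hτ

open Polynomial in
theorem main : K760.Hurw.W0Stmt.{u} := by
  intro k _ _ _ S q _ _ _ hdim F r b hFq hF f m hmon hdeg hsq hroot hc P₀ π₀ σ₀ hD
  obtain ⟨c, hc, -⟩ := hc
  have hS : Pi1.IsNormalScheme S := isNormal_of_smooth q
  have hfin := hF.fin
  have hsurj : Surjective F := surjective_of_dim F hdim
    (Groth.Agent.Models.H59.P1Fibre.topologicalKrullDim_P1 k)
  have hne : ∀ (v : Spec (CommRingCat.of k[X]) ⟶ CohB1.ProjSpace 1 k) [IsOpenImmersion v],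
      Nonempty (F ⁻¹ᵁ v.opensRange) := by
    intro v _
    obtain ⟨x, hx⟩ := hsurj.surj (v (⊥ : PrimeSpectrum k[X]))
    exact ⟨⟨x, ⟨_, hx.symm⟩⟩⟩
  have hne0 := hne (v0 k)
  have hne1 := hne (v1 k)
  -- the function field
  have hU : IsAffineOpen (F ⁻¹ᵁ (v0 k).opensRange) := (isAffineOpen_opensRange (v0 k)).preimage F
  obtain ⟨ψ, hψ⟩ := exists_isPullback_fromSpec F (v0 k) hU
  have hfr : IsFractionRing Γ(S, F ⁻¹ᵁ (v0 k).opensRange) S.functionField :=
    functionField_isFractionRing_of_isAffineOpen S _ hU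
  have hψi : Function.Injective ψ.hom := by
    let : Algebra k[X] Γ(S, F ⁻¹ᵁ (v0 k).opensRange) := ψ.hom.toAlgebra
    exact injective_of_chart F (v0 k) hU.fromSpec hψ
  let ρ₀ : k[X] →+* S.functionField :=
    (algebraMap Γ(S, F ⁻¹ᵁ (v0 k).opensRange) S.functionField).comp ψ.hom
  have hρ₀ : Function.Injective ρ₀ :=
    (IsFractionRing.injective Γ(S, F ⁻¹ᵁ (v0 k).opensRange) S.functionField).comp hψi
  have hcz : CharZero S.functionField := charZero_of_injective_ringHom (ρ₀.comp C).injective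
  have hgen : S.fromSpecStalk (genericPoint S) ≫ F = Spec.map (CommRingCat.ofHom ρ₀) ≫ v0 k := by
    have hmem : genericPoint S ∈ F ⁻¹ᵁ (v0 k).opensRange := by
      obtain ⟨y⟩ := hne0
      exact (genericPoint_specializes y.1).mem_open (F ⁻¹ᵁ (v0 k).opensRange).2 y.2
    have h1 : S.fromSpecStalk (genericPoint S) = Spec.map (S.germToFunctionField (F ⁻¹ᵁ (v0 k).opensRange)) ≫
        hU.fromSpec := (hU.fromSpecStalk_eq_fromSpecStalk hmem).symm
    have h2 : CommRingCat.ofHom ρ₀ = ψ ≫ S.germToFunctionField (F ⁻¹ᵁ (v0 k).opensRange) := rfl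
    rw [h1, h2, Category.assoc, hψ.w, Spec.map_comp, Category.assoc]
  -- the quadratic extension
  set φ : S.functionField := ρ₀ f with hφ
  have hφ0 : φ ≠ 0 := fun h0 => hsq.ne_zero (hρ₀ (by rw [map_zero]; exact h0))
  let L : Type u := AdjoinRoot (X ^ 2 - C φ : S.functionField[X])
  have hQ : Quad (conj φ) (AdjoinRoot.root (X ^ 2 - C φ : S.functionField[X])) φ := quad_adjoin φ hφ0
  have haff : IsAffineHom (hMap S L) := isAffineHom_hMap L q
  have hpφ : eval₂ ((algebraMap S.functionField L).comp ρ₀) (AdjoinRoot.root (X ^ 2 - C φ : S.functionField[X]))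
      (X ^ 2 - C f : k[X][X]) = 0 := by
    rw [eval₂_sub, eval₂_pow, eval₂_X, eval₂_C, adjoin_sq φ]
    exact sub_self _
  let ρ : AdjoinRoot (X ^ 2 - C f : k[X][X]) →+* L :=
    AdjoinRoot.lift ((algebraMap S.functionField L).comp ρ₀) (AdjoinRoot.root _) hpφ
  have hρof : ρ.comp (AdjoinRoot.of (X ^ 2 - C f : k[X][X])) = (algebraMap S.functionField L).comp ρ₀ :=
    AdjoinRoot.lift_comp_of (h := hpφ)
  have hρroot : ρ (AdjoinRoot.root _) = AdjoinRoot.root _ := AdjoinRoot.lift_root hpφ
  obtain ⟨j₀, hj₀, hj₀σ⟩ := hD.chart0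
  obtain ⟨j₁, hj₁, hj₁σ⟩ := hD.chart1
  let η : Spec (CommRingCat.of L) ⟶ P₀ := Spec.map (CommRingCat.ofHom ρ) ≫ j₀
  have hη : η ≫ π₀ = hMap S L ≫ F := by
    dsimp only [η]
    rw [Category.assoc, hj₀.w, ← Category.assoc, ← Spec.map_comp, ← CommRingCat.ofHom_comp, hρof,
      CommRingCat.ofHom_comp, Spec.map_comp, Category.assoc, ← hgen]
    unfold hMap
    rw [Category.assoc]
  have hησ : Spec.map (CommRingCat.ofHom (conj φ).toRingHom) ≫ η = η ≫ σ₀ := by
    dsimp only [η]
    rw [Category.assoc, hj₀σ, ← Category.assoc, ← Category.assoc, ← Spec.map_comp, ← Spec.map_comp,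
      ← CommRingCat.ofHom_comp, ← CommRingCat.ofHom_comp]
    congr 3
    refine AdjoinRoot.ringHom_ext ?_ ?_
    · refine RingHom.ext fun p => ?_
      change conj φ (ρ (AdjoinRoot.of _ p)) = ρ (neg f (AdjoinRoot.of _ p))
      have h1 : ∀ p, ρ (AdjoinRoot.of _ p) = algebraMap S.functionField L (ρ₀ p) := fun p =>
        congrArg (fun g => g p) hρof
      have h2 : neg f (AdjoinRoot.of _ p) = AdjoinRoot.of _ p := AdjoinRoot.lift_of _
      rw [h2, h1]
      exact (conj φ).commutes _
    · change conj φ (ρ (AdjoinRoot.root _)) = ρ (neg f (AdjoinRoot.root _))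
      have h2 : neg f (AdjoinRoot.root _) = -AdjoinRoot.root _ := AdjoinRoot.lift_root _
      rw [h2, map_neg, hρroot]
      exact conj_root φ
  -- the map to `P₀`
  have hπfin := hD.fin
  let T := pullback F π₀
  let η' : Spec (CommRingCat.of L) ⟶ T := pullback.lift (hMap S L) η hη.symm
  have hint : IsIntegralHom (pullback.fst F π₀) := by
    have : IsFinite (pullback.fst F π₀) := inferInstance
    infer_instance
  let d : (hMap S L).normalization ⟶ T := (hMap S L).normalizationDesc η' (pullback.fst F π₀)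
    (pullback.lift_fst _ _ _).symm
  have hd1 : (hMap S L).toNormalization ≫ d = η' := Scheme.Hom.toNormalization_normalizationDesc ..
  have hd2 : d ≫ pullback.fst F π₀ = (hMap S L).fromNormalization := Scheme.Hom.normalizationDesc_comp ..
  let p₀ : (hMap S L).normalization ⟶ P₀ := d ≫ pullback.snd F π₀
  have hp : p₀ ≫ π₀ = (hMap S L).fromNormalization ≫ F := by
    dsimp only [p₀]
    rw [Category.assoc, ← pullback.condition, ← Category.assoc, hd2]
  have hp1 : (hMap S L).toNormalization ≫ p₀ = η := by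
    dsimp only [p₀]
    rw [← Category.assoc, hd1, pullback.lift_snd]
  have hσ : Spec.map (CommRingCat.ofHom (conj φ).toRingHom) ≫ (hMap S L).toNormalization ≫ p₀ =
      (hMap S L).toNormalization ≫ p₀ ≫ σ₀ := by
    rw [hp1, hησ, ← Category.assoc, hp1]
  -- compatibility with the involutions
  let σT : T ⟶ T := pullback.lift (pullback.fst F π₀) (pullback.snd F π₀ ≫ σ₀)
    (by rw [Category.assoc, hD.over, pullback.condition])
  have hsp : invo (conj φ) ≫ d = d ≫ σT := by
    refine Scheme.Hom.normalization.hom_ext _ _ _ (pullback.fst F π₀) ?_ ?_ ?_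
    · rw [← Category.assoc, to_invo, Category.assoc, hd1, ← Category.assoc, hd1]
      apply pullback.hom_ext
      · simp only [η', σT, Category.assoc, pullback.lift_fst]
        exact map_hMap _
      · simp only [η', σT, Category.assoc, pullback.lift_snd, pullback.lift_snd_assoc]
        exact hησ
    · rw [Category.assoc, hd2, invo_from]
    · rw [Category.assoc, pullback.lift_fst, hd2]
  have hsp' : invo (conj φ) ≫ p₀ = p₀ ≫ σ₀ := by
    dsimp only [p₀]
    rw [← Category.assoc, hsp, Category.assoc, pullback.lift_snd, Category.assoc]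
  -- the charts
  have hc0 := chart_etale hS F hQ π₀ σ₀ p₀ hp hσ (v0 k) f hsq c hc j₀ hj₀ hj₀σ (fun B _ _ _ _ jB hjB =>
    ⟨finite_of_chart F (v0 k) jB hjB, injective_of_chart F (v0 k) jB hjB, fib0 (hF.simp0 B jB hjB) f hroot⟩)
  obtain ⟨c', hc'⟩ := exists_root_reverse hsq m hdeg c hc
  have hc1 := chart_etale hS F hQ π₀ σ₀ p₀ hp hσ (v1 k) f.reverse (squarefree_reverse hsq) c' hc' j₁ hj₁ hj₁σ
    (fun B _ _ _ _ jB hjB =>
      ⟨finite_of_chart F (v1 k) jB hjB, injective_of_chart F (v1 k) jB hjB, fib1 F hF f hroot jB hjB⟩)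
  obtain ⟨W₀, τ₀, jW₀, hs₀, he₀, hf₀⟩ := hc0
  obtain ⟨W₁, τ₁, jW₁, hs₁, he₁, hf₁⟩ := hc1
  have ho₀ : IsOpenImmersion j₀ := MorphismProperty.of_isPullback hj₀.flip inferInstance
  have ho₁ : IsOpenImmersion j₁ := MorphismProperty.of_isPullback hj₁.flip inferInstance
  have hcov : ∀ x : P₀, x ∈ Set.range j₀ ∨ x ∈ Set.range j₁ := by
    intro x
    rcases K681.P1Ov.cover k (π₀ x) with ⟨y, hy⟩ | ⟨y, hy⟩
    · left
      obtain ⟨z, hz, -⟩ := Scheme.exists_preimage_of_isPullback hj₀ x y hy.symm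
      exact ⟨z, hz⟩
    · right
      obtain ⟨z, hz, -⟩ := Scheme.exists_preimage_of_isPullback hj₁ x y hy.symm
      exact ⟨z, hz⟩
  refine ⟨(hMap S L).normalization, p₀, invo (conj φ), (hMap S L).fromNormalization, ?_, ?_,
    hQ.isInvQuot hS, hsp', hp⟩
  · refine of_charts @IsFinite p₀ fun z => ?_
    rcases hcov z with hz | hz
    · exact ⟨_, _, j₀, ho₀, jW₀, Spec.map τ₀, hz, hs₀, (IsFinite.SpecMap_iff _).mpr hf₀⟩
    · exact ⟨_, _, j₁, ho₁, jW₁, Spec.map τ₁, hz, hs₁, (IsFinite.SpecMap_iff _).mpr hf₁⟩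
  · refine of_charts @Etale p₀ fun z => ?_
    rcases hcov z with hz | hz
    · exact ⟨_, _, j₀, ho₀, jW₀, Spec.map τ₀, hz, hs₀, HasRingHomProperty.Spec_iff.mpr he₀⟩
    · exact ⟨_, _, j₁, ho₁, jW₁, Spec.map τ₁, hz, hs₁, HasRingHomProperty.Spec_iff.mpr he₁⟩

end K133.W0
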